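import Mathlib
import Cfsg.Prelude.Def_LocalEven
import Cfsg.Prelude.Def_CaseTheorems
import Cfsg.Prelude.Def_Local

/-!
Klinger-Mason (S2029): definitions shared by all pieces (helper50).
Everything is phrased with subgroups of one ambient finite group `G`.
-/

set_option autoImplicit false
open Cfsg Subgroup

namespace Cfsg.Agent.Lib.Helper50.KM

variable {G : Type*} [Group G]

/-- `E` lies in a 2-local subgroup. -/
def InTL (E : Subgroup G) : Prop :=
  ∃ T : Subgroup G, IsPGroup 2 T ∧ T ≠ ⊥ ∧ E ≤ normalizer (T : Set G)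

/-- the `p`-side hypothesis, in ambient form. -/
def PSide (G : Type*) [Group G] (p : ℕ) : Prop :=
  ∀ D : Subgroup G, IsPGroup p D → D ≠ ⊥ → ∃ P : Subgroup G, IsPGroup p P ∧
    P ≤ centralizer (D : Set G) ∧ normalizer (D : Set G) ≤ normalizer (P : Set G) ∧
    ∀ x ∈ centralizer (D : Set G), (orderOf x).Coprime p → (∀ y ∈ P, Commute y x) → x = 1

/-- the `2`-side hypothesis, in ambient form. -/
def TSide (G : Type*) [Group G] : Prop :=
  ∀ T : Subgroup G, IsPGroup 2 T → T ≠ ⊥ → ∃ Q : Subgroup G, IsPGroup 2 Q ∧ T ≤ Q ∧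
    normalizer (T : Set G) ≤ normalizer (Q : Set G) ∧
    ∀ x ∈ normalizer (T : Set G), (orderOf x).Coprime 2 → (∀ y ∈ Q, Commute y x) → x = 1

/-- standing hypotheses of the proof by contradiction: `n ≥ 3` is the largest rank of an elementary
abelian `p`-subgroup contained in a 2-local. -/
structure Hyp (G : Type*) [Group G] (p n : ℕ) : Prop where
  odd : p ≠ 2
  three : 3 ≤ n
  pside : PSide G p
  tside : TSide G
  hmax : ∀ A : Subgroup G, IsElementaryAbelian p A → InTL A → Nat.card A ≤ p ^ n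

/-- `Ω₁(Z(Q))` for a 2-group `Q`. -/
def omZ (Q : Subgroup G) : Subgroup G where
  carrier := {y | y ∈ Q ∧ (∀ x ∈ Q, Commute x y) ∧ y * y = 1}
  one_mem' := ⟨Q.one_mem, fun x _ => Commute.one_right x, by simp⟩
  mul_mem' := by
    rintro a b ⟨ha, hac, ha2⟩ ⟨hb, hbc, hb2⟩
    refine ⟨Q.mul_mem ha hb, fun x hx => (hac x hx).mul_right (hbc x hx), ?_⟩
    have h : a * b = b * a := (hbc a ha).eq
    calc a * b * (a * b) = a * (b * a) * b := by group
      _ = a * (a * b) * b := by rw [h]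
      _ = (a * a) * (b * b) := by group
      _ = 1 := by rw [ha2, hb2, one_mul]
  inv_mem' := by
    rintro a ⟨ha, hac, ha2⟩
    refine ⟨Q.inv_mem ha, fun x hx => (hac x hx).inv_right, ?_⟩
    calc a⁻¹ * a⁻¹ = (a * a)⁻¹ := by group
      _ = 1 := by rw [ha2, inv_one]

theorem mem_omZ {Q : Subgroup G} {y : G} :
    y ∈ omZ Q ↔ y ∈ Q ∧ (∀ x ∈ Q, Commute x y) ∧ y * y = 1 := Iff.rfl

/-- the configuration: `E` of maximal rank acts faithfully on the 2-group `Q`, and `z` is an involution of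
`Z(Q)` centralized by `E`. -/
structure Cfg (p n : ℕ) (E Q : Subgroup G) (z : G) : Prop where
  hE : IsElementaryAbelian p E
  hEc : Nat.card E = p ^ n
  hQ : IsPGroup 2 Q
  hEQ : E ≤ normalizer (Q : Set G)
  faithful : ∀ x ∈ E, (∀ y ∈ Q, Commute y x) → x = 1
  hzQ : z ∈ Q
  hz1 : z ≠ 1
  hz2 : z * z = 1
  hzc : ∀ y ∈ Q, Commute y z
  hzE : ∀ x ∈ E, Commute x z

/-- an `E`-invariant "extraspecial block" `R` with centre `⟨z⟩`. -/
structure Xs (E R : Subgroup G) (z : G) : Prop where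
  hER : E ≤ normalizer (R : Set G)
  hz1 : z ≠ 1
  hz2 : z * z = 1
  hzR : z ∈ R
  hzc : ∀ x ∈ R, Commute x z
  hzE : ∀ e ∈ E, Commute e z
  comm : ∀ x ∈ R, ∀ y ∈ R, x * y = y * x ∨ x * y = y * x * z
  sq : ∀ x ∈ R, x * x = 1 ∨ x * x = z
  center : ∀ x ∈ R, (∀ y ∈ R, Commute y x) → x = 1 ∨ x = z
  fixed : ∀ x ∈ R, (∀ e ∈ E, Commute e x) → x = 1 ∨ x = z
  big : ∃ x ∈ R, x ≠ 1 ∧ x ≠ z

/-- two commuting blocks, centralized by two distinct hyperplanes of `E`. -/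
structure Blocks (p : ℕ) (E Q : Subgroup G) (z : G) (D1 D2 R1 R2 : Subgroup G) : Prop where
  hD1 : D1 ≤ E
  hD2 : D2 ≤ E
  hne : D1 ≠ D2
  c1 : Nat.card D1 * p = Nat.card E
  c2 : Nat.card D2 * p = Nat.card E
  hR1 : R1 ≤ Q
  hR2 : R2 ≤ Q
  hRD1 : R1 ≤ centralizer (D1 : Set G)
  hRD2 : R2 ≤ centralizer (D2 : Set G)
  hRR : R2 ≤ centralizer (R1 : Set G)
  X1 : Xs E R1 z
  X2 : Xs E R2 z

end Cfsg.Agent.Lib.Helper50.KM
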