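import Cfsg.Agent.Lib.Helper50.KM.Base
import Cfsg.Agent.Lib.Helper47.AxB
import Cfsg.Agent.Lib.Lead.Cores

set_option autoImplicit false
open Cfsg Subgroup

namespace Cfsg.Agent.Lib.Helper50.KM

variable {G : Type*} [Group G]

namespace PA

/-- the image of `O_p(N)` in the ambient group. -/
def oo (p : ℕ) (N : Subgroup G) : Subgroup G := (pCore p N).map N.subtype

theorem oo_isPGroup (p : ℕ) (N : Subgroup G) : IsPGroup p (oo p N) :=
  (Cfsg.Agent.Lib.Lead.pCore_isPGroup p N).map N.subtype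

theorem oo_le (p : ℕ) (N : Subgroup G) : oo p N ≤ N := by
  rintro _ ⟨x, _, rfl⟩
  exact x.2

theorem le_normalizer_oo (p : ℕ) (N : Subgroup G) : N ≤ normalizer (oo p N : Set G) := by
  have key : ∀ g ∈ N, ∀ y ∈ oo p N, g * y * g⁻¹ ∈ oo p N := by
    rintro g hg _ ⟨x, hx, rfl⟩
    have hn : (pCore p N).Normal := Cfsg.Agent.Lib.Lead.pCore_normal' p N
    exact ⟨⟨g, hg⟩ * x * ⟨g, hg⟩⁻¹, hn.conj_mem x hx ⟨g, hg⟩, rfl⟩
  intro g hg
  rw [mem_normalizer_iff]
  intro y
  constructor
  · exact key g hg y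
  · intro h
    have := key g⁻¹ (inv_mem hg) _ h
    simpa [mul_assoc] using this

/-- an element of `N` commuting with `O_p(N)`, of order prime to `p`, is trivial as soon as
`C_N(O_p(N)) ≤ O_p(N)`. -/
theorem eq_one_of_commute {p : ℕ} {N : Subgroup G}
    (h : centralizer (pCore p N : Set N) ≤ pCore p N) {x : G} (hxN : x ∈ N)
    (hx : (orderOf x).Coprime p) (hc : ∀ y ∈ oo p N, Commute y x) : x = 1 := by
  have h1 : (⟨x, hxN⟩ : N) ∈ centralizer (pCore p N : Set N) := by
    rw [mem_centralizer_iff]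
    intro y hy
    apply Subtype.ext
    exact (hc y ⟨y, hy, rfl⟩).eq
  have h2 := h h1
  obtain ⟨k, hk⟩ := (Cfsg.Agent.Lib.Lead.pCore_isPGroup p N) ⟨⟨x, hxN⟩, h2⟩
  have hk' : x ^ p ^ k = 1 := by
    have := congrArg (fun t : pCore p N => ((t : N) : G)) hk
    simpa using this
  have hd : orderOf x ∣ p ^ k := orderOf_dvd_of_pow_eq_one hk'
  have h3 : orderOf x = 1 := Nat.Coprime.eq_one_of_dvd (hx.pow_right k) hd
  exact orderOf_eq_one_iff.mp h3

end PA

theorem pside_of [Finite G] {p : ℕ} [Fact p.Prime] (h : IsOfLocalCharacteristic p G) : PSide G p := by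
  intro D hD hD1
  have hN := h.2 D hD hD1
  set N := normalizer (D : Set G) with hNdef
  have hCN : centralizer (D : Set G) ≤ N := centralizer_le_normalizer _
  refine ⟨PA.oo p N ⊓ centralizer (D : Set G), (PA.oo_isPGroup p N).to_le inf_le_left, inf_le_right,
    ?_, ?_⟩
  · have key : ∀ g ∈ N, ∀ y ∈ PA.oo p N ⊓ centralizer (D : Set G),
        g * y * g⁻¹ ∈ PA.oo p N ⊓ centralizer (D : Set G) := by
      intro g hg y hy
      refine ⟨(mem_normalizer_iff.mp (PA.le_normalizer_oo p N hg) y).mp hy.1, ?_⟩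
      change g * y * g⁻¹ ∈ centralizer (D : Set G)
      rw [mem_centralizer_iff]
      intro d hd
      have hd' : g⁻¹ * d * g ∈ D := by
        rw [mem_normalizer_iff.mp hg (g⁻¹ * d * g)]
        simpa [mul_assoc] using hd
      have := mem_centralizer_iff.mp hy.2 _ hd'
      calc d * (g * y * g⁻¹) = g * ((g⁻¹ * d * g) * y) * g⁻¹ := by group
        _ = g * (y * (g⁻¹ * d * g)) * g⁻¹ := by rw [this]
        _ = g * y * g⁻¹ * d := by group
    intro g hg
    rw [mem_normalizer_iff]
    intro y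
    constructor
    · exact key g hg y
    · intro h
      have := key g⁻¹ (inv_mem hg) _ h
      simpa [mul_assoc] using this
  · intro x hx hxo hc
    refine PA.eq_one_of_commute hN (hCN hx) hxo ?_
    exact Cfsg.Agent.Lib.Helper47.thompson_AxB (PA.oo_isPGroup p N) hD hxo
      (PA.le_normalizer_oo p N (hCN hx)) (le_normalizer.trans (PA.le_normalizer_oo p N)) hx hc

theorem tside_of [Finite G] (h : IsCharacteristicTwoType G) : TSide G := by
  intro T hT hT1
  have hN := h.2 T hT hT1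
  set N := normalizer (T : Set G) with hNdef
  refine ⟨PA.oo 2 N, PA.oo_isPGroup 2 N, ?_, PA.le_normalizer_oo 2 N, ?_⟩
  · have hn : (T.subgroupOf N).Normal := Subgroup.normal_in_normalizer
    have hp : IsPGroup 2 (T.subgroupOf N) :=
      hT.of_injective (T.subgroupOfEquivOfLe le_normalizer).toMonoidHom
        (T.subgroupOfEquivOfLe le_normalizer).injective
    have hle := Cfsg.Agent.Lib.Lead.le_pCore hn hp
    intro t ht
    exact ⟨⟨t, le_normalizer ht⟩, hle (mem_subgroupOf.mpr ht), rfl⟩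
  · intro x hx hxo hc
    exact PA.eq_one_of_commute hN hx hxo hc

end Cfsg.Agent.Lib.Helper50.KM
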