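import Cfsg.Agent.Lib.Helper50.KM.Base
import Cfsg.Agent.S0058

set_option autoImplicit false
open Cfsg Subgroup

namespace Cfsg.Agent.Lib.Helper50.KM

variable {G : Type*} [Group G]

namespace PB

theorem zpow_of_sq {g : G} (hg : g * g = 1) (j : ℤ) : g ^ j = 1 ∨ g ^ j = g := by
  have h2 : g ^ (2 : ℤ) = 1 := by
    rw [show (2 : ℤ) = 1 + 1 from rfl, zpow_add, zpow_one, hg]
  rcases Int.even_or_odd' j with ⟨k, rfl | rfl⟩
  · left
    rw [zpow_mul, h2, one_zpow]
  · right
    rw [zpow_add, zpow_mul, h2, one_zpow, one_mul, zpow_one]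

end PB

set_option linter.unusedVariables false in
theorem exists_inverted [Finite G] {p : ℕ} [Fact p.Prime] (hp : p ≠ 2) {W : Subgroup G}
    (hW : IsPGroup p W) {x : G}
    (hx2 : x * x = 1) (hxW : x ∈ normalizer (W : Set G)) (hnc : ¬ ∀ w ∈ W, Commute w x) :
    ∃ w ∈ W, orderOf w = p ∧ x * w * x⁻¹ = w⁻¹ := by
  push Not at hnc
  obtain ⟨v, hv, hvx⟩ := hnc
  have hxi : x⁻¹ = x := inv_eq_of_mul_eq_one_left hx2
  have hw0 : v⁻¹ * (x * v * x⁻¹) ∈ W := W.mul_mem (W.inv_mem hv) ((mem_normalizer_iff.1 hxW v).1 hv)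
  set w0 := v⁻¹ * (x * v * x⁻¹) with hw0def
  have hne : w0 ≠ 1 := by
    intro h
    apply hvx
    have h1 : x * v * x⁻¹ = v := by
      have := congrArg (v * ·) h
      simpa [hw0def] using this
    exact (mul_inv_eq_iff_eq_mul.1 h1).symm
  have hinv : x * w0 * x⁻¹ = w0⁻¹ := by
    have h1 : x * w0 * x⁻¹ = (x * v * x⁻¹)⁻¹ * ((x * x) * v * (x * x)⁻¹) := by
      rw [hw0def]; group
    rw [h1, hx2, hw0def]
    group
  obtain ⟨k, hk⟩ := (IsPGroup.iff_orderOf.1 hW) ⟨w0, hw0⟩
  rw [Subgroup.orderOf_mk] at hk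
  have hk0 : k ≠ 0 := by
    rintro rfl
    rw [pow_zero, orderOf_eq_one_iff] at hk
    exact hne hk
  obtain ⟨m, rfl⟩ := Nat.exists_eq_succ_of_ne_zero hk0
  have hp0 : p ≠ 0 := (Fact.out : p.Prime).ne_zero
  refine ⟨w0 ^ p ^ m, W.pow_mem hw0 _, ?_, ?_⟩
  · rw [orderOf_pow_of_dvd (pow_ne_zero _ hp0) (by rw [hk]; exact pow_dvd_pow p (Nat.le_succ m)), hk,
      pow_succ, Nat.mul_div_cancel_left _ (pow_pos (Nat.pos_of_ne_zero hp0) m)]
  · rw [← conj_pow, hinv, inv_pow]

theorem exists_hyperplane [Finite G] {X W : Subgroup G} (hX : IsElementaryAbelian 2 X)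
    (hW : Odd (Nat.card W)) (hXW : X ≤ normalizer (W : Set G)) {x : G} (hx : x ∈ X)
    (hnc : ¬ ∀ w ∈ W, Commute w x) :
    ∃ X0 : Subgroup G, X0 ≤ X ∧ x ∉ X0 ∧ X0 ⊔ zpowers x = X ∧
      ¬ ∀ w ∈ W ⊓ centralizer (X0 : Set G), Commute w x := by
  have hXc : ∀ a ∈ X, ∀ b ∈ X, a * b = b * a := by
    intro a ha b hb
    exact congrArg Subtype.val (hX.1.is_comm.comm (⟨a, ha⟩ : X) ⟨b, hb⟩)
  have hsq : ∀ a ∈ X, a * a = 1 := fun a ha => by rw [← sq]; exact hX.2 a ha
  let 𝓕 : Set (Subgroup G) := {F | F ≤ X ∧ ¬ ∀ w ∈ W ⊓ centralizer (F : Set G), Commute w x}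
  have hbot : (⊥ : Subgroup G) ∈ 𝓕 := by
    refine ⟨bot_le, fun h => hnc fun w hw => h w (mem_inf.2 ⟨hw, ?_⟩)⟩
    rw [mem_centralizer_iff]
    intro g hg
    have : g = 1 := hg
    rw [this]; simp
  obtain ⟨X0, hX0, hmax⟩ := Set.Finite.exists_maximal (Set.toFinite 𝓕) ⟨⊥, hbot⟩
  have hmax' : ∀ F ∈ 𝓕, X0 ≤ F → F ≤ X0 := fun F hF h => hmax hF h
  have hxX0 : x ∉ X0 := by
    intro h
    apply hX0.2
    intro w hw
    exact ((mem_centralizer_iff.1 (mem_inf.1 hw).2) x h).symm
  refine ⟨X0, hX0.1, hxX0, ?_, hX0.2⟩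
  by_contra hne
  have hle : X0 ⊔ zpowers x ≤ X := sup_le hX0.1 (zpowers_le.2 hx)
  obtain ⟨y, hy, hyn⟩ : ∃ y ∈ X, y ∉ X0 ⊔ zpowers x := by
    by_contra hcon
    push Not at hcon
    exact hne (le_antisymm hle hcon)
  have hx1 : x ≠ 1 := by
    rintro rfl
    exact hnc fun w _ => Commute.one_right w
  set A : Subgroup G := closure {x, y} with hA
  have hAX : A ≤ X := by
    rw [hA, closure_le]
    rintro g (rfl | rfl)
    · exact hx
    · exact hy
  have hxx := hsq x hx
  have hyy := hsq y hy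
  have hxy := hXc x hx y hy
  have hxi : x⁻¹ = x := inv_eq_of_mul_eq_one_left hxx
  have hyi : y⁻¹ = y := inv_eq_of_mul_eq_one_left hyy
  have hstep : ∀ g ∈ ({x, y} : Set G), ∀ a : G, (a = 1 ∨ a = x ∨ a = y ∨ a = x * y) →
      (g * a = 1 ∨ g * a = x ∨ g * a = y ∨ g * a = x * y) := by
    rintro g (rfl | rfl) a (rfl | rfl | rfl | rfl)
    · right; left; simp
    · left; exact hxx
    · right; right; right; rfl
    · right; right; left; rw [← mul_assoc, hxx, one_mul]
    · right; right; left; simp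
    · right; right; right; exact hxy.symm
    · left; exact hyy
    · right; left; rw [hxy, ← mul_assoc, hyy, one_mul]
  have hAmem : ∀ a ∈ A, a = 1 ∨ a = x ∨ a = y ∨ a = x * y := by
    intro a ha
    induction ha using closure_induction_left with
    | one => left; rfl
    | mul_left g hg a _ ih => exact hstep g hg a ih
    | inv_mul_cancel g hg a _ ih =>
      have hgi : g⁻¹ = g := by
        rcases hg with rfl | rfl
        · exact hxi
        · exact hyi
      rw [hgi]
      exact hstep g hg a ih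
  have hAX0 : ∀ a ∈ A, a ≠ 1 → a ∉ X0 := by
    intro a ha ha1 haX0
    rcases hAmem a ha with rfl | rfl | rfl | rfl
    · exact ha1 rfl
    · exact hxX0 haX0
    · exact hyn (mem_sup_left haX0)
    · apply hyn
      have : y = (x * y) * x := by
        rw [hXc x hx y hy, mul_assoc, hsq x hx, mul_one]
      rw [this]
      exact mul_mem (mem_sup_left haX0) (mem_sup_right (mem_zpowers x))
  have : IsMulCommutative A :=
    ⟨⟨fun a b => Subtype.ext (hXc a (hAX a.2) b (hAX b.2))⟩⟩
  have hncyc : ¬ IsCyclic A := by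
    intro hc
    obtain ⟨g, hg⟩ := hc.exists_generator
    have hg2 : g * g = 1 := Subtype.ext (hsq g (hAX g.2))
    have hall : ∀ a : A, a = 1 ∨ a = g := by
      intro a
      obtain ⟨j, rfl⟩ := mem_zpowers_iff.1 (hg a)
      exact PB.zpow_of_sq hg2 j
    have hxA : x ∈ A := subset_closure (by simp)
    have hyA : y ∈ A := subset_closure (by simp)
    have h1 : (⟨x, hxA⟩ : A) = g := (hall ⟨x, hxA⟩).resolve_left (fun h => hx1 (congrArg Subtype.val h))
    rcases hall ⟨y, hyA⟩ with h2 | h2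
    · apply hyn
      have : y = 1 := congrArg Subtype.val h2
      rw [this]; exact one_mem _
    · apply hyn
      have : y = x := by
        have := h2.trans h1.symm
        exact congrArg Subtype.val this
      rw [this]; exact mem_sup_right (mem_zpowers x)
  set W0 : Subgroup G := W ⊓ centralizer (X0 : Set G) with hW0
  have hAW0 : A ≤ normalizer (W0 : Set G) := by
    intro a ha
    have haX := hAX ha
    have haC : a ∈ centralizer (X0 : Set G) := by
      rw [mem_centralizer_iff]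
      intro g hg
      exact hXc g (hX0.1 hg) a haX
    rw [mem_normalizer_iff]
    intro h
    rw [hW0, mem_inf, mem_inf]
    constructor
    · rintro ⟨h1, h2⟩
      exact ⟨(mem_normalizer_iff.1 (hXW haX) h).1 h1, mul_mem (mul_mem haC h2) (inv_mem haC)⟩
    · rintro ⟨h1, h2⟩
      refine ⟨(mem_normalizer_iff.1 (hXW haX) h).2 h1, ?_⟩
      have := mul_mem (mul_mem (inv_mem haC) h2) haC
      simpa [mul_assoc] using this
  have hcop : (Nat.card A).Coprime (Nat.card W0) := by
    have hA2 : IsPGroup 2 A := by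
      intro a
      refine ⟨1, Subtype.ext ?_⟩
      simpa using hX.2 a (hAX a.2)
    obtain ⟨k, hk⟩ := IsPGroup.iff_card.1 hA2
    rw [hk]
    apply Nat.Coprime.pow_left
    have hodd : Odd (Nat.card W0) := by
      have hdvd : Nat.card W0 ∣ Nat.card W := Subgroup.card_dvd_of_le inf_le_left
      exact Odd.of_dvd_nat hW hdvd
    exact (Nat.coprime_two_left).2 hodd
  have hgen := Cfsg.Agent.S0058.result A W0 hncyc hAW0 hcop
  apply hX0.2
  have hle2 : W0 ≤ centralizer ({x} : Set G) := by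
    rw [← hgen]
    refine iSup₂_le ?_
    rintro a ⟨ha, ha1⟩
    have haX0 := hAX0 a ha ha1
    have hF : X0 ⊔ zpowers a ∉ 𝓕 := by
      intro hF
      exact haX0 (hmax' _ hF le_sup_left (mem_sup_right (mem_zpowers a)))
    have hF' : ∀ w ∈ W ⊓ centralizer ((X0 ⊔ zpowers a : Subgroup G) : Set G), Commute w x := by
      by_contra hcon
      exact hF ⟨sup_le hX0.1 (zpowers_le.2 (hAX ha)), hcon⟩
    intro w hw
    obtain ⟨hw1, hw3⟩ := mem_inf.1 hw
    rw [hW0] at hw1
    obtain ⟨hw1, hw2⟩ := mem_inf.1 hw1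
    rw [mem_centralizer_iff]
    intro g hg
    have hgx : g = x := hg
    rw [hgx]
    refine ((hF' w (mem_inf.2 ⟨hw1, ?_⟩)).eq).symm
    have h1 : X0 ⊔ zpowers a ≤ centralizer ({w} : Set G) := by
      refine sup_le ?_ (zpowers_le.2 ?_)
      · intro g hg
        rw [mem_centralizer_iff]
        intro u hu
        have : u = w := hu
        rw [this]
        exact ((mem_centralizer_iff.1 hw2) g hg).symm
      · rw [mem_centralizer_iff]
        intro u hu
        have : u = w := hu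
        rw [this]
        exact ((mem_centralizer_iff.1 hw3) a rfl).symm
    rw [mem_centralizer_iff]
    intro g hg
    exact ((mem_centralizer_iff.1 (h1 hg)) w rfl).symm
  intro w hw
  exact ((mem_centralizer_iff.1 (hle2 hw)) x rfl).symm

end Cfsg.Agent.Lib.Helper50.KM
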