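import Cfsg.Agent.Lib.Helper50.KM.Base

set_option autoImplicit false
open Cfsg Subgroup

namespace Cfsg.Agent.Lib.Helper50.KM

variable {G : Type*} [Group G]

theorem ea_isPGroup {q : ℕ} {Y : Subgroup G} (hY : IsElementaryAbelian q Y) : IsPGroup q Y := by
  intro y
  refine ⟨1, ?_⟩
  apply Subtype.ext
  simpa using hY.2 y y.2

theorem ea_mono {q : ℕ} {Y Y' : Subgroup G} (hY : IsElementaryAbelian q Y) (h : Y' ≤ Y) :
    IsElementaryAbelian q Y' := by
  refine ⟨⟨⟨fun a b => ?_⟩⟩, fun a ha => hY.2 a (h ha)⟩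
  have := hY.1.is_comm.comm ⟨a, h a.2⟩ ⟨b, h b.2⟩
  apply Subtype.ext
  exact congrArg (fun t : Y => (t : G)) this

namespace PC

theorem comm_of_ea {q : ℕ} {Y : Subgroup G} (hY : IsElementaryAbelian q Y) {a b : G} (ha : a ∈ Y)
    (hb : b ∈ Y) : a * b = b * a :=
  congrArg Subtype.val (hY.1.is_comm.comm ⟨a, ha⟩ ⟨b, hb⟩)

theorem mem_sup_of_comm {Y1 Y2 : Subgroup G} (hc : Y2 ≤ centralizer (Y1 : Set G)) {g : G} :
    g ∈ Y1 ⊔ Y2 ↔ ∃ a ∈ Y1, ∃ b ∈ Y2, a * b = g := by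
  have hn : Y2 ≤ normalizer (Y1 : Set G) := hc.trans (centralizer_le_normalizer _)
  rw [← SetLike.mem_coe, coe_mul_of_right_le_normalizer_left Y1 Y2 hn]
  exact Set.mem_mul

theorem zpowers_le_centralizer {Y : Subgroup G} {y : G} (hc : ∀ x ∈ Y, Commute x y) :
    zpowers y ≤ centralizer (Y : Set G) := by
  rw [zpowers_le, mem_centralizer_iff]
  intro x hx
  exact (hc x hx).eq

end PC

theorem ea_sup {q : ℕ} {Y1 Y2 : Subgroup G} (h1 : IsElementaryAbelian q Y1) (h2 : IsElementaryAbelian q Y2)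
    (hc : Y2 ≤ centralizer (Y1 : Set G)) : IsElementaryAbelian q (Y1 ⊔ Y2) := by
  have hcc : ∀ a ∈ Y1, ∀ b ∈ Y2, Commute a b := fun a ha b hb => (mem_centralizer_iff.mp (hc hb) a ha)
  refine ⟨⟨⟨fun x y => ?_⟩⟩, fun x hx => ?_⟩
  · obtain ⟨a, ha, b, hb, hab⟩ := (PC.mem_sup_of_comm hc).mp x.2
    obtain ⟨c, hc', d, hd, hcd⟩ := (PC.mem_sup_of_comm hc).mp y.2
    apply Subtype.ext
    change (x : G) * y = y * x
    rw [← hab, ← hcd]
    have e1 : Commute a c := PC.comm_of_ea h1 ha hc'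
    have e2 : Commute b d := PC.comm_of_ea h2 hb hd
    have e3 : Commute a d := hcc a ha d hd
    have e4 : Commute c b := hcc c hc' b hb
    exact ((e1.mul_right e3).mul_left (e4.symm.mul_right e2)).eq
  · obtain ⟨a, ha, b, hb, hab⟩ := (PC.mem_sup_of_comm hc).mp hx
    rw [← hab, (hcc a ha b hb).mul_pow, h1.2 a ha, h2.2 b hb, one_mul]

theorem card_sup_of_disjoint [Finite G] {Y1 Y2 : Subgroup G} (hc : Y2 ≤ centralizer (Y1 : Set G))
    (hd : Y1 ⊓ Y2 = ⊥) : Nat.card (Y1 ⊔ Y2 : Subgroup G) = Nat.card Y1 * Nat.card Y2 := by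
  rw [← Nat.card_prod]
  symm
  refine Nat.card_congr (Equiv.ofBijective
    (fun g : Y1 × Y2 => (⟨(g.1 : G) * g.2, mul_mem (le_sup_left (a := Y1) (b := Y2) g.1.2)
      (le_sup_right (a := Y1) (b := Y2) g.2.2)⟩ : (Y1 ⊔ Y2 : Subgroup G))) ⟨?_, ?_⟩)
  · intro g g' hgg
    exact Subgroup.mul_injective_of_disjoint (disjoint_iff.mpr hd) (congrArg Subtype.val hgg)
  · rintro ⟨g, hg⟩
    obtain ⟨a, ha, b, hb, hab⟩ := (PC.mem_sup_of_comm hc).mp hg
    exact ⟨(⟨a, ha⟩, ⟨b, hb⟩), Subtype.ext hab⟩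

theorem ea_zpowers {q : ℕ} {y : G} (hy : y ^ q = 1) : IsElementaryAbelian q (zpowers y) := by
  refine ⟨inferInstance, fun a ha => ?_⟩
  obtain ⟨n, rfl⟩ := mem_zpowers_iff.mp ha
  rw [← zpow_natCast, ← zpow_mul, mul_comm, zpow_mul, zpow_natCast, hy, one_zpow]

theorem ea_sup_zpowers {q : ℕ} {Y : Subgroup G} {y : G} (hY : IsElementaryAbelian q Y) (hy : y ^ q = 1)
    (hc : ∀ x ∈ Y, Commute x y) : IsElementaryAbelian q (Y ⊔ zpowers y) :=
  ea_sup hY (ea_zpowers hy) (PC.zpowers_le_centralizer hc)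

theorem card_sup_zpowers [Finite G] {q : ℕ} [Fact q.Prime] {Y : Subgroup G} {y : G} (hy : y ^ q = 1)
    (hc : ∀ x ∈ Y, Commute x y) (hyY : y ∉ Y) :
    Nat.card (Y ⊔ zpowers y : Subgroup G) = Nat.card Y * q := by
  have hy1 : y ≠ 1 := fun h => hyY (h ▸ Y.one_mem)
  have ho : orderOf y = q := orderOf_eq_prime hy hy1
  have hcard : Nat.card (zpowers y) = q := by rw [Nat.card_zpowers, ho]
  rw [card_sup_of_disjoint (PC.zpowers_le_centralizer hc), hcard]
  -- disjointness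
  by_contra hne
  have hle : Y ⊓ zpowers y ≤ zpowers y := inf_le_right
  have hdvd : Nat.card (Y ⊓ zpowers y : Subgroup G) ∣ q := hcard ▸ Subgroup.card_dvd_of_le hle
  rcases (Nat.dvd_prime (Fact.out : q.Prime)).mp hdvd with h | h
  · exact hne (Subgroup.card_eq_one.mp h)
  · have : Y ⊓ zpowers y = zpowers y := Subgroup.eq_of_le_of_card_ge hle (by rw [h, hcard])
    have hmem : y ∈ Y ⊓ zpowers y := by rw [this]; exact mem_zpowers y
    exact hyY hmem.1

theorem mem_sup_zpowers {Y : Subgroup G} {y g : G} (hc : ∀ x ∈ Y, Commute x y) :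
    g ∈ Y ⊔ zpowers y ↔ ∃ x ∈ Y, ∃ i : ℤ, g = x * y ^ i := by
  rw [PC.mem_sup_of_comm (PC.zpowers_le_centralizer hc)]
  constructor
  · rintro ⟨a, ha, b, hb, rfl⟩
    obtain ⟨i, rfl⟩ := mem_zpowers_iff.mp hb
    exact ⟨a, ha, i, rfl⟩
  · rintro ⟨a, ha, i, rfl⟩
    exact ⟨a, ha, y ^ i, zpow_mem_zpowers y i, rfl⟩

theorem omZ_le (Q : Subgroup G) : omZ Q ≤ Q := fun _ h => h.1

theorem omZ_ea (Q : Subgroup G) : IsElementaryAbelian 2 (omZ Q) := by
  refine ⟨⟨⟨fun a b => ?_⟩⟩, fun a ha => by rw [pow_two]; exact ha.2.2⟩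
  apply Subtype.ext
  exact (b.2.2.1 a a.2.1).eq

theorem omZ_ne_bot [Finite G] {Q : Subgroup G} (hQ : IsPGroup 2 Q) (h : Q ≠ ⊥) : omZ Q ≠ ⊥ := by
  have : Nontrivial Q := (Subgroup.nontrivial_iff_ne_bot Q).mpr h
  have : Fact (Nat.Prime 2) := ⟨Nat.prime_two⟩
  have := hQ.center_nontrivial
  have hZ : IsPGroup 2 (center Q) := hQ.to_subgroup _
  have hdvd : 2 ∣ Nat.card (center Q) := by
    obtain ⟨n, hn⟩ := IsPGroup.iff_card.mp hZ
    rw [hn]
    rcases n with _ | n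
    · exfalso
      rw [pow_zero] at hn
      have := Finite.one_lt_card (α := center Q)
      omega
    · exact dvd_pow_self 2 (Nat.succ_ne_zero n)
  obtain ⟨x, hx⟩ := exists_prime_orderOf_dvd_card' 2 hdvd
  intro hbot
  have hmem : ((x : Q) : G) ∈ omZ Q := by
    refine ⟨(x : Q).2, fun w hw => ?_, ?_⟩
    · have := mem_center_iff.mp x.2 ⟨w, hw⟩
      exact congrArg Subtype.val this
    · have h2 : x ^ 2 = 1 := hx ▸ pow_orderOf_eq_one x
      have := congrArg (fun t : center Q => ((t : Q) : G)) h2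
      simpa [pow_two] using this
  rw [hbot, mem_bot] at hmem
  have hx1 : x = 1 := by
    apply Subtype.ext; apply Subtype.ext; simpa using hmem
  rw [hx1, orderOf_one] at hx
  omega

theorem normalizer_le_normalizer_omZ (Q : Subgroup G) :
    normalizer (Q : Set G) ≤ normalizer (omZ Q : Set G) := by
  have key : ∀ g ∈ normalizer (Q : Set G), ∀ y ∈ omZ Q, g * y * g⁻¹ ∈ omZ Q := by
    intro g hg y hy
    have hg' := mem_normalizer_iff.mp hg
    refine ⟨(hg' y).mp hy.1, fun x hx => ?_, ?_⟩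
    · have hx' : g⁻¹ * x * g ∈ Q := by
        rw [hg' (g⁻¹ * x * g)]
        simpa [mul_assoc] using hx
      have := (hy.2.1 _ hx').eq
      change x * (g * y * g⁻¹) = g * y * g⁻¹ * x
      calc x * (g * y * g⁻¹) = g * ((g⁻¹ * x * g) * y) * g⁻¹ := by group
        _ = g * (y * (g⁻¹ * x * g)) * g⁻¹ := by rw [this]
        _ = g * y * g⁻¹ * x := by group
    · calc g * y * g⁻¹ * (g * y * g⁻¹) = g * (y * y) * g⁻¹ := by group
        _ = 1 := by rw [hy.2.2]; group
  intro g hg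
  rw [mem_normalizer_iff]
  intro y
  constructor
  · exact key g hg y
  · intro h
    have := key g⁻¹ (inv_mem hg) _ h
    simpa [mul_assoc] using this

theorem four_le_card_of_free [Finite G] {E V : Subgroup G} (hV : IsPGroup 2 V) (hV1 : V ≠ ⊥)
    (hEV : E ≤ normalizer (V : Set G)) (hfree : V ⊓ centralizer (E : Set G) = ⊥) :
    2 ^ 2 ≤ Nat.card V := by
  have : Fact (Nat.Prime 2) := ⟨Nat.prime_two⟩
  obtain ⟨n, hn⟩ := IsPGroup.iff_card.mp hV
  rw [hn]
  rcases n with _ | _ | n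
  · exfalso
    rw [pow_zero] at hn
    exact hV1 (Subgroup.card_eq_one.mp hn)
  · exfalso
    rw [zero_add, pow_one] at hn
    -- V = {1, v}
    obtain ⟨v, hvV, hv1⟩ : ∃ v ∈ V, v ≠ 1 := by
      by_contra hcon
      push Not at hcon
      exact hV1 ((Subgroup.eq_bot_iff_forall V).mpr hcon)
    have hall : ∀ w ∈ V, w = 1 ∨ w = v := by
      intro w hw
      by_contra hcon
      push Not at hcon
      have : 3 ≤ Nat.card V := by
        have hinj : Function.Injective (fun i : Fin 3 => (![⟨1, V.one_mem⟩, ⟨v, hvV⟩, ⟨w, hw⟩] i : V)) := by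
          intro i j hij
          fin_cases i <;> fin_cases j <;> simp_all [Subtype.ext_iff]
        simpa using Nat.card_le_card_of_injective _ hinj
      omega
    have hvc : v ∈ V ⊓ centralizer (E : Set G) := by
      refine ⟨hvV, ?_⟩
      change v ∈ centralizer (E : Set G)
      rw [mem_centralizer_iff]
      intro e he
      have hm : e * v * e⁻¹ ∈ V := (mem_normalizer_iff.mp (hEV he) v).mp hvV
      rcases hall _ hm with h | h
      · exfalso
        apply hv1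
        have : v = e⁻¹ * (e * v * e⁻¹) * e := by group
        rw [this, h]; group
      · calc e * v = (e * v * e⁻¹) * e := by group
          _ = v * e := by rw [h]
    rw [hfree, mem_bot] at hvc
    exact hv1 hvc
  · exact Nat.pow_le_pow_right (by norm_num) (by omega)

end Cfsg.Agent.Lib.Helper50.KM
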