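import Cfsg.Agent.Lib.Helper50.KM.Base
import Cfsg.Agent.S1324
import Cfsg.Agent.Lib.Helper51.PGroup

set_option autoImplicit false
open Cfsg Subgroup

namespace Cfsg.Agent.Lib.Helper50.KM

variable {G : Type*} [Group G]

namespace PD

theorem card_mul_relIndex' {H K : Subgroup G} (h : H ≤ K) : Nat.card H * H.relIndex K = Nat.card K := by
  have h1 := Subgroup.card_mul_index (H.subgroupOf K)
  have h2 : Nat.card (H.subgroupOf K) = Nat.card H :=
    Nat.card_congr (Subgroup.subgroupOfEquivOfLe h).toEquiv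
  rw [h2] at h1
  exact h1

/-- an index `p` subgroup is maximal. -/
theorem eq_of_lt_le [Finite G] {p : ℕ} [hp : Fact p.Prime] {E F M : Subgroup G}
    (c1 : Nat.card F * p = Nat.card E) (hFM : F < M) (hME : M ≤ E) : M = E := by
  have h1 := card_mul_relIndex' hFM.le
  have h2 := card_mul_relIndex' hME
  have hFpos : 0 < Nat.card F := Nat.card_pos
  have h3 : F.relIndex M * M.relIndex E = p := by
    have : Nat.card F * (F.relIndex M * M.relIndex E) = Nat.card F * p := by
      rw [c1, ← h2, ← h1]; ring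
    exact Nat.eq_of_mul_eq_mul_left hFpos this
  have h4 : F.relIndex M ≠ 1 := by
    intro h
    exact hFM.not_ge (Subgroup.relIndex_eq_one.mp h)
  have h5 : F.relIndex M ∣ p := ⟨_, h3.symm⟩
  have h6 : F.relIndex M = p := ((Nat.dvd_prime hp.out).mp h5).resolve_left h4
  rw [h6] at h3
  have h7 : M.relIndex E = 1 := by
    have : p * M.relIndex E = p * 1 := by rw [h3, mul_one]
    exact Nat.eq_of_mul_eq_mul_left hp.out.pos this
  exact le_antisymm hME (Subgroup.relIndex_eq_one.mp h7)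

theorem ne_of_card [Finite G] {p : ℕ} [hp : Fact p.Prime] {E F : Subgroup G}
    (c1 : Nat.card F * p = Nat.card E) : F ≠ E := by
  rintro rfl
  have hpos : 0 < Nat.card F := Nat.card_pos
  have : Nat.card F * p = Nat.card F * 1 := by rw [c1, mul_one]
  have := Nat.eq_of_mul_eq_mul_left hpos this
  exact hp.out.one_lt.ne' this

end PD

theorem exists_hyp [Finite G] {p : ℕ} [Fact p.Prime] {E K A : Subgroup G} (hE : IsElementaryAbelian p E)
    (hE2 : p ^ 2 ≤ Nat.card E) (hK : ¬ p ∣ Nat.card K) (hEK : E ≤ normalizer (K : Set G)) (hAE : A ≤ E)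
    (hnc : ¬ K ≤ centralizer (A : Set G)) :
    ∃ F : Subgroup G, F ≤ E ∧ Nat.card F * p = Nat.card E ∧
      ¬ (K ⊓ centralizer (F : Set G) ≤ centralizer (A : Set G)) := by
  by_contra hcon
  push Not at hcon
  apply hnc
  have h := Cfsg.Agent.S1324.result p E K hE hE2 hK hEK
  rw [h]
  apply iSup_le
  rintro ⟨B, hBE, hBi⟩
  show K ⊓ centralizer (B : Set G) ≤ centralizer (A : Set G)
  by_cases hB : B = E
  · subst hB
    exact inf_le_right.trans (Subgroup.centralizer_le hAE)
  · apply hcon B hBE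
    have hEp : IsPGroup p E := by
      intro x
      refine ⟨1, ?_⟩
      apply Subtype.ext
      have := hE.2 x x.2
      simpa using this
    obtain ⟨m, hm⟩ := (IsPGroup.iff_card).mp hEp
    have h1 : B.relIndex E ∣ p ^ m := hm ▸ Subgroup.relIndex_dvd_card B E
    obtain ⟨j, hj, hj2⟩ := (Nat.dvd_prime_pow (Fact.out : p.Prime)).mp h1
    have h2 : B.relIndex E ≠ 1 := by
      intro h3
      exact hB (le_antisymm hBE (Subgroup.relIndex_eq_one.mp h3))
    have hp1 : 1 < p := (Fact.out : p.Prime).one_lt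
    have h3 : B.relIndex E = p := by
      rcases j with _ | _ | j
      · rw [pow_zero] at hj2; exact absurd hj2 h2
      · rw [hj2]; simp
      · exfalso
        rw [hj2] at hBi
        have h9 : p ^ 1 < p ^ (j + 1 + 1) := Nat.pow_lt_pow_right hp1 (by omega)
        rw [pow_one] at h9
        exact absurd hBi (not_le.mpr h9)
    rw [← h3]
    exact PD.card_mul_relIndex' hBE

theorem hyp_sup_zpowers [Finite G] {p : ℕ} [Fact p.Prime] {E F : Subgroup G} {e : G} (h1 : F ≤ E)
    (c1 : Nat.card F * p = Nat.card E) (he : e ∈ E) (heF : e ∉ F) : F ⊔ zpowers e = E := by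
  apply PD.eq_of_lt_le c1
  · refine lt_of_le_of_ne le_sup_left ?_
    intro h
    apply heF
    rw [h]
    exact mem_sup_right (mem_zpowers e)
  · exact sup_le h1 (by rwa [zpowers_le])

theorem hyp_sup_inf [Finite G] {p : ℕ} [Fact p.Prime] {E F1 F2 : Subgroup G} (hE : IsElementaryAbelian p E)
    (h1 : F1 ≤ E) (h2 : F2 ≤ E) (c1 : Nat.card F1 * p = Nat.card E) (c2 : Nat.card F2 * p = Nat.card E)
    (hne : F1 ≠ F2) : F1 ⊔ F2 = E ∧ Nat.card (F1 ⊓ F2 : Subgroup G) * p ^ 2 = Nat.card E := by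
  have hsup : F1 ⊔ F2 = E := by
    apply PD.eq_of_lt_le c1
    · refine lt_of_le_of_ne le_sup_left ?_
      intro h
      have h21 : F2 ≤ F1 := by rw [h]; exact le_sup_right
      apply hne
      by_contra hne'
      have hlt : F2 < F1 := lt_of_le_of_ne h21 (fun h => hne' h.symm)
      exact PD.ne_of_card c1 (PD.eq_of_lt_le c2 hlt h1)
    · exact sup_le h1 h2
  refine ⟨hsup, ?_⟩
  have hn : F1 ≤ normalizer (F2 : Set G) := by
    intro x hx
    rw [Subgroup.mem_normalizer_iff]
    intro y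
    have hcomm : ∀ y ∈ F2, x * y * x⁻¹ = y := by
      intro y hy
      have := hE.1.is_comm.comm ⟨x, h1 hx⟩ ⟨y, h2 hy⟩
      have h3 : x * y = y * x := congrArg Subtype.val this
      rw [h3]; group
    constructor
    · intro hy
      rw [hcomm y hy]; exact hy
    · intro hy
      have h4 := hcomm _ hy
      have h5 : x⁻¹ * (x * (x * y * x⁻¹) * x⁻¹) * x = x * y * x⁻¹ := by group
      rw [h4] at h5
      have h6 : x⁻¹ * (x * y * x⁻¹) * x = y := by group
      rw [h6] at h5
      rw [h5]; exact hy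
  have h3 := Cfsg.Agent.Lib.Helper51.card_sup_mul_card_inf_of_le_normalizer F1 F2 hn
  rw [hsup] at h3
  have hpos : 0 < Nat.card F1 := Nat.card_pos
  have hEpos : 0 < Nat.card E := Nat.card_pos
  -- card E * card inf = card F1 * card F2 ; multiply by p^2
  have h4 : Nat.card E * (Nat.card (F1 ⊓ F2 : Subgroup G) * p ^ 2) = Nat.card E * Nat.card E := by
    calc Nat.card E * (Nat.card (F1 ⊓ F2 : Subgroup G) * p ^ 2)
        = (Nat.card E * Nat.card (F1 ⊓ F2 : Subgroup G)) * p ^ 2 := by ring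
      _ = (Nat.card F1 * Nat.card F2) * p ^ 2 := by rw [h3]
      _ = (Nat.card F1 * p) * (Nat.card F2 * p) := by ring
      _ = Nat.card E * Nat.card E := by rw [c1, c2]
  exact Nat.eq_of_mul_eq_mul_left hEpos h4

theorem exists_outside [Finite G] {p : ℕ} [Fact p.Prime] {E F1 F2 : Subgroup G}
    (h1 : F1 ≤ E) (h2 : F2 ≤ E) (c1 : Nat.card F1 * p = Nat.card E) (c2 : Nat.card F2 * p = Nat.card E) :
    ∃ e ∈ E, e ∉ F1 ∧ e ∉ F2 := by
  have hl1 : F1 < E := lt_of_le_of_ne h1 (PD.ne_of_card c1)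
  have hl2 : F2 < E := lt_of_le_of_ne h2 (PD.ne_of_card c2)
  obtain ⟨a, haE, ha1⟩ := SetLike.exists_of_lt hl1
  obtain ⟨b, hbE, hb2⟩ := SetLike.exists_of_lt hl2
  by_cases ha2 : a ∈ F2
  · by_cases hb1 : b ∈ F1
    · refine ⟨a * b, E.mul_mem haE hbE, ?_, ?_⟩
      · intro h
        apply ha1
        have : a = (a * b) * b⁻¹ := by group
        rw [this]; exact F1.mul_mem h (F1.inv_mem hb1)
      · intro h
        apply hb2
        have : b = a⁻¹ * (a * b) := by group
        rw [this]; exact F2.mul_mem (F2.inv_mem ha2) h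
    · exact ⟨b, hbE, hb1, hb2⟩
  · exact ⟨a, haE, ha1, ha2⟩

end Cfsg.Agent.Lib.Helper50.KM
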