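import Cfsg.Agent.Lib.Helper50.KM.PB
import Cfsg.Agent.Lib.Helper50.KM.PC

set_option autoImplicit false
open Cfsg Subgroup

namespace Cfsg.Agent.Lib.Helper50.KM

variable {G : Type*} [Group G]

theorem no_pair [Finite G] {p n : ℕ} [Fact p.Prime] (H : Hyp G p n) {D X : Subgroup G}
    (hD : IsElementaryAbelian p D) (hX : IsElementaryAbelian 2 X) (hXD : X ≤ centralizer (D : Set G))
    {r k : ℕ} (hr : 1 ≤ r) (hk : 1 ≤ k) (hDr : p ^ r ≤ Nat.card D) (hXk : 2 ^ k ≤ Nat.card X) :
    r + k ≤ n + 1 := by
  have hpp : p.Prime := Fact.out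
  induction k generalizing D X r with
  | zero => omega
  | succ k ih =>
    have hXne : X ≠ ⊥ := by
      rintro rfl
      rw [Subgroup.card_bot] at hXk
      have : 2 ≤ 2 ^ (k + 1) := by
        calc 2 = 2 ^ 1 := rfl
          _ ≤ 2 ^ (k + 1) := Nat.pow_le_pow_right (by norm_num) (by omega)
      omega
    have hDX : D ≤ centralizer (X : Set G) := le_centralizer_iff.1 hXD
    rcases Nat.eq_zero_or_pos k with rfl | hk1
    · -- base case
      have hTL : InTL D := ⟨X, ea_isPGroup hX, hXne, hDX.trans (centralizer_le_normalizer _)⟩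
      have h1 := H.hmax D hD hTL
      have h2 : p ^ r ≤ p ^ n := hDr.trans h1
      have h3 : r ≤ n := (Nat.pow_le_pow_iff_right hpp.one_lt).1 h2
      omega
    · have hDne : D ≠ ⊥ := by
        rintro rfl
        rw [Subgroup.card_bot] at hDr
        have : p ≤ p ^ r := by
          calc p = p ^ 1 := (pow_one p).symm
            _ ≤ p ^ r := Nat.pow_le_pow_right hpp.pos hr
        have := hpp.one_lt
        omega
      obtain ⟨P, hP, hPD, hNP, hfaith⟩ := H.pside D (ea_isPGroup hD) hDne
      obtain ⟨⟨x, hx⟩, hx1'⟩ := (Subgroup.ne_bot_iff_exists_ne_one).1 hXne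
      have hx1 : x ≠ 1 := fun h => hx1' (Subtype.ext h)
      have hx2' : x ^ 2 = 1 := hX.2 x hx
      have hx2 : x * x = 1 := by rw [← sq]; exact hx2'
      have hXc : ∀ a ∈ X, ∀ b ∈ X, Commute a b := by
        intro a ha b hb
        exact congrArg Subtype.val (hX.1.is_comm.comm (⟨a, ha⟩ : X) ⟨b, hb⟩)
      have hord : orderOf x = 2 := orderOf_eq_prime hx2' hx1
      have hcop : (orderOf x).Coprime p := by
        rw [hord]
        exact (Nat.coprime_primes Nat.prime_two hpp).2 (Ne.symm H.odd)
      have hnc : ¬ ∀ y ∈ P, Commute y x := fun h => hx1 (hfaith x (hXD hx) hcop h)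
      have hXP : X ≤ normalizer (P : Set G) :=
        (hXD.trans (centralizer_le_normalizer _)).trans hNP
      have hPodd : Odd (Nat.card P) := by
        obtain ⟨m, hm⟩ := IsPGroup.iff_card.1 hP
        rw [hm]
        exact (hpp.odd_of_ne_two H.odd).pow
      obtain ⟨X0, hX0, hxX0, hsup, hnc0⟩ := exists_hyperplane hX hPodd hXP hx hnc
      have hcard : Nat.card X = Nat.card X0 * 2 := by
        rw [← hsup]
        exact card_sup_zpowers (q := 2) hx2' (fun a ha => hXc a (hX0 ha) x hx) hxX0
      have hX0k : 2 ^ k ≤ Nat.card X0 := by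
        rw [hcard, pow_succ] at hXk
        omega
      have hxC : x ∈ centralizer (X0 : Set G) := by
        rw [mem_centralizer_iff]
        intro g hg
        exact (hXc g (hX0 hg) x hx).eq
      have hxW0 : x ∈ normalizer ((P ⊓ centralizer (X0 : Set G) : Subgroup G) : Set G) := by
        rw [mem_normalizer_iff]
        intro h
        rw [mem_inf, mem_inf]
        constructor
        · rintro ⟨h1, h2⟩
          exact ⟨(mem_normalizer_iff.1 (hXP hx) h).1 h1, mul_mem (mul_mem hxC h2) (inv_mem hxC)⟩
        · rintro ⟨h1, h2⟩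
          refine ⟨(mem_normalizer_iff.1 (hXP hx) h).2 h1, ?_⟩
          have := mul_mem (mul_mem (inv_mem hxC) h2) hxC
          simpa [mul_assoc] using this
      obtain ⟨w, hw, hwp, hwx⟩ := exists_inverted H.odd (hP.to_le inf_le_left) hx2 hxW0 hnc0
      obtain ⟨hwP, hwC⟩ := mem_inf.1 hw
      have hwpow : w ^ p = 1 := by rw [← hwp]; exact pow_orderOf_eq_one w
      have hwD : ∀ d ∈ D, Commute d w := fun d hd => (mem_centralizer_iff.1 (hPD hwP)) d hd
      have hwnD : w ∉ D := by
        intro hwD'
        have h1 : x * w = w * x := ((mem_centralizer_iff.1 (hXD hx)) w hwD').symm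
        have h2 : x * w * x⁻¹ = w := by rw [h1, mul_inv_cancel_right]
        rw [h2] at hwx
        have h3 : w ^ 2 = 1 := by
          rw [sq]
          nth_rewrite 1 [hwx]
          exact inv_mul_cancel w
        have h4 : p ∣ 2 := by rw [← hwp]; exact orderOf_dvd_of_pow_eq_one h3
        exact H.odd ((Nat.prime_dvd_prime_iff_eq hpp Nat.prime_two).1 h4)
      have hD' : IsElementaryAbelian p (D ⊔ zpowers w) := ea_sup_zpowers hD hwpow hwD
      have hD'c : Nat.card (D ⊔ zpowers w : Subgroup G) = Nat.card D * p :=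
        card_sup_zpowers hwpow hwD hwnD
      have hX0D' : X0 ≤ centralizer ((D ⊔ zpowers w : Subgroup G) : Set G) := by
        rw [le_centralizer_iff]
        refine sup_le (hDX.trans (centralizer_le hX0)) (zpowers_le.2 hwC)
      have := ih hD' (ea_mono hX hX0) hX0D' (r := r + 1) (by omega) hk1
        (by rw [hD'c, pow_succ]; exact Nat.mul_le_mul_right p hDr) hX0k
      omega

end Cfsg.Agent.Lib.Helper50.KM
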