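import Cfsg.Agent.Lib.Helper50.KM.PD
import Cfsg.Agent.Lib.Helper50.KM.PE

set_option autoImplicit false
open Cfsg Subgroup

namespace Cfsg.Agent.Lib.Helper50.KM

variable {G : Type*} [Group G]

namespace PF

theorem comm_of_ea {q : ℕ} {E : Subgroup G} (hE : IsElementaryAbelian q E) {a b : G}
    (ha : a ∈ E) (hb : b ∈ E) : a * b = b * a := by
  have := hE.1.is_comm.comm ⟨a, ha⟩ ⟨b, hb⟩
  exact congrArg Subtype.val this

theorem le_cent_of_ea {q : ℕ} {E F : Subgroup G} (hE : IsElementaryAbelian q E) (hF : F ≤ E) :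
    E ≤ centralizer (F : Set G) := by
  intro e he
  rw [mem_centralizer_iff]
  intro f hf
  exact comm_of_ea hE (hF hf) he

theorem norm_inf_cent {E K F : Subgroup G} (hEF : E ≤ centralizer (F : Set G))
    (hEK : E ≤ normalizer (K : Set G)) :
    E ≤ normalizer ((K ⊓ centralizer (F : Set G) : Subgroup G) : Set G) := by
  intro e he
  rw [mem_normalizer_iff]
  intro h
  have h1 := (mem_normalizer_iff.mp (hEK he)) h
  have h2 : h ∈ centralizer (F : Set G) ↔ e * h * e⁻¹ ∈ centralizer (F : Set G) := by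
    rw [Subgroup.mul_mem_cancel_right _ (inv_mem (hEF he)), Subgroup.mul_mem_cancel_left _ (hEF he)]
  rw [mem_inf, mem_inf, h1, h2]

theorem not_dvd_of_two {p : ℕ} [Fact p.Prime] [Finite G] (hp : p ≠ 2) {K : Subgroup G}
    (hK : IsPGroup 2 K) : ¬ p ∣ Nat.card K := by
  obtain ⟨k, hk⟩ := (IsPGroup.iff_card (p := 2)).mp hK
  rw [hk]
  intro h
  have := (Nat.prime_dvd_prime_iff_eq (Fact.out : p.Prime) Nat.prime_two).mp
    ((Fact.out : p.Prime).dvd_of_dvd_pow h)
  exact hp this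

/-- the general remark (a) -/
theorem remark [Finite G] {p n : ℕ} [Fact p.Prime] (H : Hyp G p n) {E V : Subgroup G}
    (hE : IsElementaryAbelian p E) (hEc : Nat.card E = p ^ n) (hV : IsPGroup 2 V) (hV1 : V ≠ ⊥)
    (hEV : E ≤ normalizer (V : Set G)) (hfree : V ⊓ centralizer (E : Set G) = ⊥) :
    ∃ F : Subgroup G, F ≤ E ∧ Nat.card F * p = Nat.card E ∧
      2 ^ 2 ≤ Nat.card (V ⊓ centralizer (F : Set G) : Subgroup G) := by
  have hp1 : 1 ≤ p := (Fact.out : p.Prime).one_lt.le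
  obtain ⟨F, hFE, hFc, hFn⟩ := exists_hyp (K := V) (A := E) hE
    (by rw [hEc]; exact Nat.pow_le_pow_right hp1 (by have := H.three; omega))
    (not_dvd_of_two H.odd hV) hEV le_rfl
    (by
      intro h
      apply hV1
      rw [← hfree]
      exact (inf_eq_left.mpr h).symm)
  refine ⟨F, hFE, hFc, ?_⟩
  refine four_le_card_of_free (E := E) (hV.to_le inf_le_left) ?_
    (norm_inf_cent (le_cent_of_ea hE hFE) hEV) ?_
  · intro h
    apply hFn
    rw [h]
    exact bot_le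
  · rw [eq_bot_iff, ← hfree]
    exact inf_le_inf_right _ inf_le_left

theorem card_hyp {p n : ℕ} [Fact p.Prime] {a : ℕ} (hn : 1 ≤ n) (h : a * p = p ^ n) :
    a = p ^ (n - 1) := by
  obtain ⟨k, rfl⟩ : ∃ k, n = k + 1 := ⟨n - 1, by omega⟩
  rw [pow_succ] at h
  simpa using Nat.eq_of_mul_eq_mul_right (Fact.out : p.Prime).pos h

/-- no elementary abelian 2-group of order `≥ 8` centralizes a hyperplane -/
theorem no8 [Finite G] {p n : ℕ} [Fact p.Prime] (H : Hyp G p n) {E F X : Subgroup G}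
    (hE : IsElementaryAbelian p E) (hEc : Nat.card E = p ^ n) (hFE : F ≤ E)
    (hFc : Nat.card F * p = Nat.card E) (hX : IsElementaryAbelian 2 X)
    (hXF : X ≤ centralizer (F : Set G)) (h8 : 2 ^ 3 ≤ Nat.card X) : False := by
  have h3 := H.three
  have hc : Nat.card F = p ^ (n - 1) := card_hyp (by omega) (hFc.trans hEc)
  have := no_pair H (ea_mono hE hFE) hX hXF (r := n - 1) (k := 3) (by omega) (by omega) hc.ge h8
  omega

/-- adjoin an involution -/
theorem ext8 [Finite G] {V0 : Subgroup G} {y : G} (hV0 : IsElementaryAbelian 2 V0)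
    (h4 : 2 ^ 2 ≤ Nat.card V0) (hy : y ^ 2 = 1) (hc : ∀ x ∈ V0, Commute x y) (hyV : y ∉ V0) :
    IsElementaryAbelian 2 (V0 ⊔ zpowers y) ∧ 2 ^ 3 ≤ Nat.card (V0 ⊔ zpowers y : Subgroup G) := by
  haveI : Fact (Nat.Prime 2) := ⟨Nat.prime_two⟩
  refine ⟨ea_sup_zpowers hV0 hy hc, ?_⟩
  rw [card_sup_zpowers hy hc hyV]
  omega

theorem exists_invol [Finite G] {R : Subgroup G} (hR : IsPGroup 2 R) (h : R ≠ ⊥) :
    ∃ y ∈ R, y ≠ 1 ∧ y ^ 2 = 1 := by
  haveI : Fact (Nat.Prime 2) := ⟨Nat.prime_two⟩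
  obtain ⟨k, hk⟩ := (IsPGroup.iff_card (p := 2)).mp hR
  have hk0 : k ≠ 0 := by
    rintro rfl
    apply h
    rw [pow_zero] at hk
    exact (Subgroup.card_eq_one).mp hk
  obtain ⟨y, hy⟩ := exists_prime_orderOf_dvd_card' (G := R) 2 (by rw [hk]; exact dvd_pow_self 2 hk0)
  refine ⟨y, y.2, ?_, ?_⟩
  · intro h1
    have : y = 1 := Subtype.ext h1
    rw [this, orderOf_one] at hy
    omega
  · have := pow_orderOf_eq_one y
    rw [hy] at this
    exact congrArg Subtype.val this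

end PF

open PF in
theorem fixed_ne_bot [Finite G] {p n : ℕ} [Fact p.Prime] (H : Hyp G p n) {E V : Subgroup G}
    (hE : IsElementaryAbelian p E) (hEc : Nat.card E = p ^ n) (hV : IsElementaryAbelian 2 V) (hV1 : V ≠ ⊥)
    (hEV : E ≤ normalizer (V : Set G)) : V ⊓ centralizer (E : Set G) ≠ ⊥ := by
  intro hfree
  haveI : Fact (Nat.Prime 2) := ⟨Nat.prime_two⟩
  have h3 := H.three
  have hpp : p.Prime := Fact.out
  obtain ⟨Q, hQ2, hVQ, hNQ, hfaith⟩ := H.tside V (ea_isPGroup hV) hV1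
  have hEQ : E ≤ normalizer (Q : Set G) := hEV.trans hNQ
  have hQ1 : Q ≠ ⊥ := by
    intro h
    apply hV1
    rw [eq_bot_iff, ← h]
    exact hVQ
  set Z := omZ Q with hZ
  have hZ1 : Z ≠ ⊥ := omZ_ne_bot hQ2 hQ1
  have hEZ : E ≤ normalizer (Z : Set G) := hEQ.trans (normalizer_le_normalizer_omZ Q)
  have hZea : IsElementaryAbelian 2 Z := omZ_ea Q
  -- (b)
  have hZfree : Z ⊓ centralizer (E : Set G) = ⊥ := by
    by_contra hne
    obtain ⟨z', hz', hz'1⟩ : ∃ z', z' ∈ Z ⊓ centralizer (E : Set G) ∧ z' ≠ 1 := by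
      by_contra hcon
      push_neg at hcon
      exact hne ((Subgroup.eq_bot_iff_forall _).mpr hcon)
    obtain ⟨hz'Z, hz'E⟩ := mem_inf.mp hz'
    obtain ⟨hz'Q, hz'c, hz'2⟩ := mem_omZ.mp hz'Z
    have hz'V : z' ∉ V := by
      intro h
      have : z' ∈ V ⊓ centralizer (E : Set G) := mem_inf.mpr ⟨h, hz'E⟩
      rw [hfree, mem_bot] at this
      exact hz'1 this
    obtain ⟨F, hFE, hFc, h4⟩ := remark H hE hEc (ea_isPGroup hV) hV1 hEV hfree
    obtain ⟨hXea, hX8⟩ := ext8 (V0 := V ⊓ centralizer (F : Set G)) (y := z')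
      (ea_mono hV inf_le_left) h4 (by rw [sq]; exact hz'2)
      (fun x hx => hz'c x (hVQ (mem_inf.mp hx).1)) (fun h => hz'V (mem_inf.mp h).1)
    refine no8 H hE hEc hFE hFc hXea ?_ hX8
    rw [sup_le_iff]
    refine ⟨inf_le_right, ?_⟩
    rw [zpowers_le]
    exact centralizer_le (by exact_mod_cast hFE) hz'E
  -- (c)
  obtain ⟨F1, hF1E, hF1c, h41⟩ := remark H hE hEc (ea_isPGroup hZea) hZ1 hEZ hZfree
  set V1 := Z ⊓ centralizer (F1 : Set G) with hV1def
  have hV1ea : IsElementaryAbelian 2 V1 := ea_mono hZea inf_le_left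
  have hV1c : ∀ x ∈ V1, ∀ y ∈ Q, Commute x y := by
    intro x hx y hy
    exact ((mem_omZ.mp (mem_inf.mp hx).1).2.1 y hy).symm
  have hQfree : Q ⊓ centralizer (E : Set G) = ⊥ := by
    by_contra hne
    obtain ⟨y, hy, hy1, hy2⟩ := exists_invol (hQ2.to_le inf_le_left) hne
    obtain ⟨hyQ, hyE⟩ := mem_inf.mp hy
    have hyZ : y ∉ Z := by
      intro h
      have : y ∈ Z ⊓ centralizer (E : Set G) := mem_inf.mpr ⟨h, hyE⟩
      rw [hZfree, mem_bot] at this
      exact hy1 this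
    obtain ⟨hXea, hX8⟩ := ext8 (V0 := V1) (y := y) hV1ea h41 hy2
      (fun x hx => hV1c x hx y hyQ) (fun h => hyZ (mem_inf.mp h).1)
    refine no8 H hE hEc hF1E hF1c hXea ?_ hX8
    rw [sup_le_iff]
    refine ⟨inf_le_right, ?_⟩
    rw [zpowers_le]
    exact centralizer_le (by exact_mod_cast hF1E) hyE
  have hF1card : Nat.card F1 = p ^ (n - 1) := card_hyp (by omega) (hF1c.trans hEc)
  have hF1ne : F1 ≠ ⊥ := by
    intro h
    rw [h, Subgroup.card_bot] at hF1card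
    have : 1 < p ^ (n - 1) := Nat.one_lt_pow (by omega) hpp.one_lt
    omega
  have hQF1 : ¬ Q ≤ centralizer (F1 : Set G) := by
    intro h
    obtain ⟨x, hx, hx1⟩ : ∃ x ∈ F1, x ≠ 1 := by
      by_contra hcon
      push_neg at hcon
      exact hF1ne ((Subgroup.eq_bot_iff_forall _).mpr hcon)
    apply hx1
    refine hfaith x (hEV (hF1E hx)) ?_ ?_
    · have hxp : x ^ p = 1 := hE.2 x (hF1E hx)
      have hd : orderOf x ∣ p := orderOf_dvd_of_pow_eq_one hxp
      refine Nat.Coprime.coprime_dvd_left hd ?_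
      exact (Nat.coprime_primes hpp Nat.prime_two).mpr H.odd
    · intro y hy
      exact ((mem_centralizer_iff.mp (h hy)) x hx).symm
  have hp1 : 1 ≤ p := hpp.one_lt.le
  obtain ⟨F2, hF2E, hF2c, hF2n⟩ := exists_hyp (K := Q) (A := F1) hE
    (by rw [hEc]; exact Nat.pow_le_pow_right hp1 (by omega))
    (not_dvd_of_two H.odd hQ2) hEQ hF1E hQF1
  have hne12 : F1 ≠ F2 := by
    intro h
    apply hF2n
    rw [← h]
    exact inf_le_right
  set R2 := Q ⊓ centralizer (F2 : Set G) with hR2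
  have hR21 : R2 ≠ ⊥ := by
    intro h
    apply hF2n
    rw [h]
    exact bot_le
  have hR22 : IsPGroup 2 R2 := hQ2.to_le inf_le_left
  have hER2 : E ≤ normalizer (R2 : Set G) := norm_inf_cent (le_cent_of_ea hE hF2E) hEQ
  set V2 := omZ R2 with hV2
  have hV21 : V2 ≠ ⊥ := omZ_ne_bot hR22 hR21
  have hEV2 : E ≤ normalizer (V2 : Set G) := hER2.trans (normalizer_le_normalizer_omZ R2)
  have hV2ea : IsElementaryAbelian 2 V2 := omZ_ea R2
  have hV2R : V2 ≤ R2 := omZ_le R2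
  have hV2free : V2 ⊓ centralizer (E : Set G) = ⊥ := by
    rw [eq_bot_iff, ← hQfree]
    exact inf_le_inf_right _ (hV2R.trans inf_le_left)
  have h42 : 2 ^ 2 ≤ Nat.card V2 := four_le_card_of_free (ea_isPGroup hV2ea) hV21 hEV2 hV2free
  obtain ⟨hsup, hinf⟩ := hyp_sup_inf hE hF1E hF2E hF1c hF2c hne12
  have hdisj : V1 ⊓ V2 = ⊥ := by
    rw [eq_bot_iff, ← hQfree]
    intro x hx
    obtain ⟨hx1, hx2⟩ := mem_inf.mp hx
    have hxQ : x ∈ Q := (mem_inf.mp (hV2R hx2)).1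
    have hxF1 : F1 ≤ centralizer (zpowers x : Set G) := by
      rw [le_centralizer_iff, zpowers_le]
      exact (mem_inf.mp hx1).2
    have hxF2 : F2 ≤ centralizer (zpowers x : Set G) := by
      rw [le_centralizer_iff, zpowers_le]
      exact (mem_inf.mp (hV2R hx2)).2
    have hxE : E ≤ centralizer (zpowers x : Set G) := by
      rw [← hsup]
      exact sup_le hxF1 hxF2
    rw [le_centralizer_iff, zpowers_le] at hxE
    exact mem_inf.mpr ⟨hxQ, hxE⟩
  have hV2V1 : V2 ≤ centralizer (V1 : Set G) := by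
    intro y hy
    rw [mem_centralizer_iff]
    intro x hx
    exact (hV1c x hx y (mem_inf.mp (hV2R hy)).1).eq
  have hXea : IsElementaryAbelian 2 (V1 ⊔ V2) := ea_sup hV1ea hV2ea hV2V1
  have hXc : Nat.card (V1 ⊔ V2 : Subgroup G) = Nat.card V1 * Nat.card V2 :=
    card_sup_of_disjoint hV2V1 hdisj
  have hX16 : 2 ^ 4 ≤ Nat.card (V1 ⊔ V2 : Subgroup G) := by
    rw [hXc]
    calc 2 ^ 4 = 2 ^ 2 * 2 ^ 2 := by norm_num
      _ ≤ _ := Nat.mul_le_mul h41 h42
  have hDc : Nat.card (F1 ⊓ F2 : Subgroup G) = p ^ (n - 2) := by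
    rw [hEc] at hinf
    obtain ⟨k, rfl⟩ : ∃ k, n = k + 2 := ⟨n - 2, by omega⟩
    rw [pow_add] at hinf
    simpa using Nat.eq_of_mul_eq_mul_right (pow_pos hpp.pos 2) hinf
  have hXD : V1 ⊔ V2 ≤ centralizer ((F1 ⊓ F2 : Subgroup G) : Set G) := by
    rw [sup_le_iff]
    constructor
    · exact inf_le_right.trans (centralizer_le (by exact_mod_cast (inf_le_left : F1 ⊓ F2 ≤ F1)))
    · exact (hV2R.trans inf_le_right).trans
        (centralizer_le (by exact_mod_cast (inf_le_right : F1 ⊓ F2 ≤ F2)))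
  have := no_pair H (ea_mono hE (inf_le_left.trans hF1E)) hXea hXD (r := n - 2) (k := 4)
    (by omega) (by omega) hDc.ge hX16
  omega

end Cfsg.Agent.Lib.Helper50.KM
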