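import Cfsg.Agent.Lib.Helper50.KM.PF
import Cfsg.Agent.S0055

set_option autoImplicit false
open Cfsg Subgroup

namespace Cfsg.Agent.Lib.Helper50.KM

variable {G : Type*} [Group G]

namespace PG

theorem mem_normalizer_of_conj [Finite G] {W : Subgroup G} {g : G}
    (h : ∀ w ∈ W, g * w * g⁻¹ ∈ W) : g ∈ normalizer (W : Set G) := by
  have hle : W.map (MulAut.conj g).toMonoidHom ≤ W := by
    rintro _ ⟨w, hw, rfl⟩
    exact h w hw
  have heq : W.map (MulAut.conj g).toMonoidHom = W := by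
    apply Subgroup.eq_of_le_of_card_ge hle
    rw [Subgroup.card_map_of_injective (MulAut.conj g).injective]
  rw [mem_normalizer_iff]
  intro x
  constructor
  · intro hx
    exact h x hx
  · intro hx
    rw [← heq] at hx
    obtain ⟨w, hw, hw'⟩ := hx
    have : w = x := by
      have h2 : g * w * g⁻¹ = g * x * g⁻¹ := hw'
      exact mul_left_cancel (mul_right_cancel h2)
    rwa [← this]

theorem conj_mem_of_normalizer {W : Subgroup G} {g w : G} (hg : g ∈ normalizer (W : Set G))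
    (hw : w ∈ W) : g * w * g⁻¹ ∈ W := (mem_normalizer_iff.mp hg w).mp hw

theorem le_normalizer_commutator [Finite G] {V E : Subgroup G} (hEV : E ≤ normalizer (V : Set G)) :
    E ≤ normalizer ((⁅V, E⁆ : Subgroup G) : Set G) := by
  intro g hg
  apply mem_normalizer_of_conj
  intro w hw
  have h1 : (⁅V, E⁆ : Subgroup G).map (MulAut.conj g).toMonoidHom ≤ ⁅V, E⁆ := by
    rw [Subgroup.map_commutator]
    apply Subgroup.commutator_mono
    · rintro _ ⟨v, hv, rfl⟩
      exact conj_mem_of_normalizer (hEV hg) hv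
    · rintro _ ⟨e, he, rfl⟩
      exact E.mul_mem (E.mul_mem hg he) (E.inv_mem hg)
  exact h1 ⟨w, hw, rfl⟩

theorem coprime_two_of_pow {p : ℕ} [hp : Fact p.Prime] (h2 : p ≠ 2) {x : G} (hx : x ^ p = 1) :
    (orderOf x).Coprime 2 := by
  have h1 : orderOf x ∣ p := orderOf_dvd_of_pow_eq_one hx
  have h3 : (p).Coprime 2 := (Nat.coprime_primes hp.out Nat.prime_two).mpr h2
  exact Nat.Coprime.coprime_dvd_left h1 h3

theorem mem_zpowers_invol {z x : G} (hz : z * z = 1) (hx : x ∈ zpowers z) : x = 1 ∨ x = z := by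
  obtain ⟨i, rfl⟩ := mem_zpowers_iff.mp hx
  have h2 : z ^ (2 : ℤ) = 1 := by
    rw [zpow_ofNat, pow_two]; exact hz
  rcases Int.even_or_odd' i with ⟨k, rfl | rfl⟩
  · left
    rw [zpow_mul, h2, one_zpow]
  · right
    rw [zpow_add, zpow_mul, h2, one_zpow, one_mul, zpow_one]

end PG

open PG

theorem exists_cfg [Finite G] {p n : ℕ} [Fact p.Prime] (H : Hyp G p n) {E : Subgroup G}
    (hE : IsElementaryAbelian p E) (hEc : Nat.card E = p ^ n) (hEl : InTL E) :
    ∃ (Q : Subgroup G) (z : G), Cfg p n E Q z := by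
  obtain ⟨T, hT, hT1, hET⟩ := hEl
  obtain ⟨Q, hQ2, hTQ, hNN, hfaith⟩ := H.tside T hT hT1
  have hQ1 : Q ≠ ⊥ := by
    intro h
    apply hT1
    rw [h] at hTQ
    exact le_bot_iff.mp hTQ
  have hEQ : E ≤ normalizer (Q : Set G) := hET.trans hNN
  have h1 := fixed_ne_bot H hE hEc (omZ_ea Q) (omZ_ne_bot hQ2 hQ1)
    (hEQ.trans (normalizer_le_normalizer_omZ Q))
  obtain ⟨z, hz1⟩ := (Subgroup.ne_bot_iff_exists_ne_one).mp h1
  have hzm : (z : G) ∈ omZ Q ⊓ centralizer (E : Set G) := z.2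
  obtain ⟨hzQ, hzc, hz2⟩ := mem_omZ.mp hzm.1
  refine ⟨Q, z, ⟨hE, hEc, hQ2, hEQ, ?_, hzQ, ?_, hz2, hzc, ?_⟩⟩
  · intro x hx hc
    exact hfaith x (hET hx) (coprime_two_of_pow H.odd (hE.2 x hx)) hc
  · intro h
    exact hz1 (Subtype.ext h)
  · intro x hx
    exact (mem_centralizer_iff.mp hzm.2 x hx)

theorem ea_le [Finite G] {p n : ℕ} [Fact p.Prime] (H : Hyp G p n) {E Q : Subgroup G} {z : G}
    (C : Cfg p n E Q z) {V : Subgroup G} (hV : IsElementaryAbelian 2 V) (hVQ : V ≤ Q)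
    (hEV : E ≤ normalizer (V : Set G)) : ∀ v ∈ V, v = 1 ∨ v = z := by
  have hpp : p.Prime := Fact.out
  have hVc : IsMulCommutative V := hV.1
  have hcop : (Nat.card E).Coprime (Nat.card V) := by
    obtain ⟨k, hk⟩ := IsPGroup.iff_card.mp (ea_isPGroup hV)
    rw [C.hEc, hk]
    apply Nat.Coprime.pow
    exact (Nat.coprime_primes hpp Nat.prime_two).mpr H.odd
  obtain ⟨h1, h2⟩ := Cfsg.Agent.S0055.result E V hEV hcop
  have hWV : (⁅V, E⁆ : Subgroup G) ≤ V := by
    calc (⁅V, E⁆ : Subgroup G) ≤ (V ⊓ centralizer (E : Set G)) ⊔ ⁅V, E⁆ := le_sup_right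
      _ = V := h2
  have hW : (⁅V, E⁆ : Subgroup G) = ⊥ := by
    by_contra hne
    have h3 := fixed_ne_bot H C.hE C.hEc (ea_mono hV hWV) hne (le_normalizer_commutator hEV)
    apply h3
    rw [eq_bot_iff, ← h1]
    exact le_inf (le_inf (inf_le_left.trans hWV) inf_le_right) inf_le_left
  rw [hW, sup_bot_eq] at h2
  have hVE : V ≤ centralizer (E : Set G) := by
    rw [← h2]; exact inf_le_right
  intro v hv
  by_contra hcon
  push Not at hcon
  obtain ⟨hv1, hvz⟩ := hcon
  have hz2 : z ^ 2 = 1 := by rw [pow_two]; exact C.hz2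
  have hv2 : v ^ 2 = 1 := hV.2 v hv
  have hc : ∀ x ∈ zpowers z, Commute x v := by
    intro x hx
    obtain ⟨i, rfl⟩ := mem_zpowers_iff.mp hx
    exact ((C.hzc v (hVQ hv)).symm).zpow_left i
  have hoz : orderOf z = 2 := orderOf_eq_prime hz2 C.hz1
  have hvn : v ∉ zpowers z := by
    intro hx
    rcases mem_zpowers_invol C.hz2 hx with h | h
    · exact hv1 h
    · exact hvz h
  have hX : IsElementaryAbelian 2 (zpowers z ⊔ zpowers v) :=
    ea_sup_zpowers (ea_zpowers hz2) hv2 hc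
  have hXc : Nat.card (zpowers z ⊔ zpowers v : Subgroup G) = Nat.card (zpowers z) * 2 :=
    card_sup_zpowers (q := 2) hv2 hc hvn
  rw [Nat.card_zpowers, hoz] at hXc
  have hXE : (zpowers z ⊔ zpowers v : Subgroup G) ≤ centralizer (E : Set G) := by
    rw [sup_le_iff, zpowers_le, zpowers_le]
    refine ⟨?_, hVE hv⟩
    rw [mem_centralizer_iff]
    intro x hx
    exact C.hzE x hx
  have h5 := no_pair H C.hE hX hXE (r := n) (k := 2) (by have := H.three; omega) (by norm_num)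
    (by rw [C.hEc]) (by rw [hXc]; norm_num)
  omega

end Cfsg.Agent.Lib.Helper50.KM
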