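import Cfsg.Agent.Lib.Helper50.KM.PG
import Cfsg.Agent.S3736
import Cfsg.Agent.Lib.Helper2.PGroupFrattini

set_option autoImplicit false
open Cfsg Subgroup

namespace Cfsg.Agent.Lib.Helper50.KM

variable {G : Type*} [Group G]

namespace PH

theorem comm_sq_one {x y : G} (h1 : Commute (x * y * x⁻¹ * y⁻¹) x) (h2 : Commute y (x * x)) :
    (x * y * x⁻¹ * y⁻¹) * (x * y * x⁻¹ * y⁻¹) = 1 := by
  calc (x * y * x⁻¹ * y⁻¹) * (x * y * x⁻¹ * y⁻¹)
      = ((x * y * x⁻¹ * y⁻¹) * x) * (y * x⁻¹ * y⁻¹) := by group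
    _ = (x * (x * y * x⁻¹ * y⁻¹)) * (y * x⁻¹ * y⁻¹) := by rw [h1.eq]
    _ = ((x * x) * y) * (x * x)⁻¹ * y⁻¹ := by group
    _ = (y * (x * x)) * (x * x)⁻¹ * y⁻¹ := by rw [h2.eq]
    _ = 1 := by group

end PH

theorem exists_xs [Finite G] {p n : ℕ} [Fact p.Prime] (H : Hyp G p n) {E Q : Subgroup G} {z : G}
    (C : Cfg p n E Q z) {U : Subgroup G} (hUQ : U ≤ Q) (hEU : E ≤ normalizer (U : Set G))
    (hnc : ¬ U ≤ centralizer (E : Set G)) : ∃ R : Subgroup G, R ≤ U ∧ Xs E R z := by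
  haveI : Fact (Nat.Prime 2) := ⟨Nat.prime_two⟩
  have hpp : p.Prime := Fact.out
  obtain ⟨R, ⟨hRU, hER, hRnc⟩, hRmin⟩ := (wellFounded_lt (α := Subgroup G)).has_min
    {R | R ≤ U ∧ E ≤ normalizer (R : Set G) ∧ ¬ R ≤ centralizer (E : Set G)} ⟨U, le_rfl, hEU, hnc⟩
  have hRQ : R ≤ Q := hRU.trans hUQ
  have hR2 : IsPGroup 2 R := C.hQ.to_le hRQ
  have hzCE : ∀ v, (v = 1 ∨ v = z) → v ∈ centralizer (E : Set G) := by
    rintro v (rfl | rfl)
    · exact one_mem _
    · rw [mem_centralizer_iff]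
      intro e he
      exact (C.hzE e he).eq
  obtain ⟨-, hcase, hirr, -⟩ := Cfsg.Agent.S3736.result (p := 2) E E R hR2 hER le_rfl le_normalizer
    (by
      rw [C.hEc]
      exact Nat.Coprime.pow_left n ((Nat.coprime_primes hpp Nat.prime_two).mpr H.odd))
    (by
      intro h
      exact hRnc (commutator_eq_bot_iff_le_centralizer.mp h))
    (by
      intro U' hU' hEU'
      rw [commutator_eq_bot_iff_le_centralizer]
      by_contra hcon
      exact hRmin U' ⟨hU'.le.trans hRU, hEU', hcon⟩ hU')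
  have hsp : IsSpecial 2 ↥R := by
    rcases hcase with hea | hsp
    · exfalso
      apply hRnc
      intro v hv
      exact hzCE v (ea_le H C hea hRQ hER v hv)
    · exact hsp
  obtain ⟨-, hfr, hcm⟩ := hsp
  have hcen : ∀ x (hx : x ∈ R), (⟨x, hx⟩ : ↥R) ∈ center ↥R → ∀ y ∈ R, Commute y x := by
    intro x hx h y hy
    have := (Subgroup.mem_center_iff.mp h) ⟨y, hy⟩
    exact congrArg Subtype.val this
  have hom : ∀ v ∈ omZ R, v = 1 ∨ v = z :=
    ea_le H C (omZ_ea R) ((omZ_le R).trans hRQ) (hER.trans (normalizer_le_normalizer_omZ R))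
  have hsqc : ∀ x (hx : x ∈ R), (⟨x * x, R.mul_mem hx hx⟩ : ↥R) ∈ center ↥R := by
    intro x hx
    have := Cfsg.Agent.Lib.Helper2.pow_p_mem_frattini (p := 2) hR2 ⟨x, hx⟩
    rw [hfr] at this
    convert this using 1
    rw [sq]
    rfl
  have hcc : ∀ x (hx : x ∈ R) y (hy : y ∈ R),
      (⟨x * y * x⁻¹ * y⁻¹, R.mul_mem (R.mul_mem (R.mul_mem hx hy) (R.inv_mem hx)) (R.inv_mem hy)⟩ : ↥R)
        ∈ center ↥R := by
    intro x hx y hy
    rw [← hcm, _root_.commutator_def]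
    exact Subgroup.commutator_mem_commutator (mem_top (⟨x, hx⟩ : ↥R)) (mem_top (⟨y, hy⟩ : ↥R))
  have hcomZ : ∀ x ∈ R, ∀ y ∈ R, x * y * x⁻¹ * y⁻¹ ∈ omZ R := by
    intro x hx y hy
    have hmem : x * y * x⁻¹ * y⁻¹ ∈ R :=
      R.mul_mem (R.mul_mem (R.mul_mem hx hy) (R.inv_mem hx)) (R.inv_mem hy)
    have h1 := hcen _ hmem (hcc x hx y hy)
    refine mem_omZ.mpr ⟨hmem, h1, ?_⟩
    exact PH.comm_sq_one (h1 x hx).symm (hcen _ _ (hsqc x hx) y hy)
  have hcenZ : ∀ x (hx : x ∈ R), (⟨x, hx⟩ : ↥R) ∈ center ↥R → x = 1 ∨ x = z := by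
    intro x hx h
    have hle : commutator ↥R ≤ (omZ R).subgroupOf R := by
      rw [_root_.commutator_def, Subgroup.commutator_le]
      intro a _ b _
      rw [mem_subgroupOf]
      exact hcomZ a a.2 b b.2
    rw [← hcm] at h
    exact hom x (mem_subgroupOf.mp (hle h))
  have hR1 : R ≠ ⊥ := by
    intro h
    apply hRnc
    rw [h]
    exact bot_le
  have hzR : z ∈ R := by
    have := omZ_ne_bot hR2 hR1
    obtain ⟨v, hv, hv1⟩ : ∃ v ∈ omZ R, v ≠ 1 := by
      by_contra hcon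
      push_neg at hcon
      exact this ((Subgroup.eq_bot_iff_forall _).mpr hcon)
    rcases hom v hv with h | h
    · exact absurd h hv1
    · rw [← h]
      exact omZ_le R hv
  refine ⟨R, hRU, ?_⟩
  refine ⟨hER, C.hz1, C.hz2, hzR, fun x hx => C.hzc x (hRQ hx), C.hzE, ?_, ?_, ?_, ?_, ?_⟩
  · -- comm
    intro x hx y hy
    rcases hom _ (hcomZ x hx y hy) with h | h
    · left
      calc x * y = (x * y * x⁻¹ * y⁻¹) * (y * x) := by group
        _ = y * x := by rw [h, one_mul]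
    · right
      calc x * y = (x * y * x⁻¹ * y⁻¹) * (y * x) := by group
        _ = z * (y * x) := by rw [h]
        _ = y * x * z := ((C.hzc (y * x) (hRQ (R.mul_mem hy hx))).eq).symm
  · -- sq
    intro x hx
    exact hcenZ _ _ (hsqc x hx)
  · -- center
    intro x hx h
    refine hcenZ x hx ?_
    rw [Subgroup.mem_center_iff]
    intro g
    exact Subtype.ext (h g g.2).eq
  · -- fixed
    intro x hx h
    have hEE : E ≤ centralizer (E : Set G) := PF.le_cent_of_ea C.hE le_rfl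
    have hΦ : ∀ v ∈ (frattini ↥R).map R.subtype, v = 1 ∨ v = z := by
      intro v hv
      obtain ⟨w, hw, rfl⟩ := Subgroup.mem_map.mp hv
      rw [hfr] at hw
      exact hcenZ w w.2 hw
    have hle : (frattini ↥R).map R.subtype ≤ R ⊓ centralizer (E : Set G) := by
      intro v hv
      refine mem_inf.mpr ⟨?_, hzCE v (hΦ v hv)⟩
      obtain ⟨w, -, rfl⟩ := Subgroup.mem_map.mp hv
      exact w.2
    rcases hirr (R ⊓ centralizer (E : Set G)) hle inf_le_left (PF.norm_inf_cent hEE hER) with h1 | h1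
    · apply hΦ
      rw [← h1]
      refine mem_inf.mpr ⟨hx, ?_⟩
      rw [mem_centralizer_iff]
      intro e he
      exact (h e he).eq
    · exfalso
      apply hRnc
      rw [← h1]
      exact inf_le_right
  · -- big
    by_contra hcon
    push_neg at hcon
    apply hRnc
    intro v hv
    apply hzCE
    by_cases h1 : v = 1
    · left; exact h1
    · right; exact hcon v hv h1

end Cfsg.Agent.Lib.Helper50.KM
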