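import Cfsg.Agent.Lib.Helper50.KM.PH
import Cfsg.Agent.Lib.Helper47.AxB

set_option autoImplicit false
open Cfsg Subgroup

namespace Cfsg.Agent.Lib.Helper50.KM

variable {G : Type*} [Group G]

namespace PI

theorem normalizer_le_normalizer_centralizer [Finite G] (R : Subgroup G) :
    normalizer (R : Set G) ≤ normalizer ((centralizer (R : Set G) : Subgroup G) : Set G) := by
  intro g hg
  apply PG.mem_normalizer_of_conj
  intro w hw
  rw [mem_centralizer_iff] at hw ⊢
  intro r hr
  have hr' : g⁻¹ * r * g⁻¹⁻¹ ∈ R := PG.conj_mem_of_normalizer (inv_mem hg) hr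
  have h1 := hw _ hr'
  rw [inv_inv] at h1
  calc r * (g * w * g⁻¹) = g * ((g⁻¹ * r * g) * w) * g⁻¹ := by group
    _ = g * (w * (g⁻¹ * r * g)) * g⁻¹ := by rw [h1]
    _ = g * w * g⁻¹ * r := by group

theorem le_normalizer_inf [Finite G] {E K L : Subgroup G} (h1 : E ≤ normalizer (K : Set G))
    (h2 : E ≤ normalizer (L : Set G)) : E ≤ normalizer ((K ⊓ L : Subgroup G) : Set G) := by
  intro g hg
  apply PG.mem_normalizer_of_conj
  intro w hw
  exact ⟨PG.conj_mem_of_normalizer (h1 hg) hw.1, PG.conj_mem_of_normalizer (h2 hg) hw.2⟩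

theorem ea_le_normalizer [Finite G] {p : ℕ} {E D : Subgroup G} (hE : IsElementaryAbelian p E)
    (hD : D ≤ E) : E ≤ normalizer (D : Set G) := by
  intro g hg
  apply PG.mem_normalizer_of_conj
  intro w hw
  have hc : IsMulCommutative E := hE.1
  have h1 : g * w = w * g := by
    have := hc.is_comm.comm (⟨g, hg⟩ : E) ⟨w, hD hw⟩
    exact congrArg Subtype.val this
  rw [h1, mul_inv_cancel_right]
  exact hw

theorem not_dvd_card_of_two [Finite G] {p : ℕ} [hp : Fact p.Prime] (h2 : p ≠ 2) {K : Subgroup G}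
    (hK : IsPGroup 2 K) : ¬ p ∣ Nat.card K := by
  obtain ⟨k, hk⟩ := IsPGroup.iff_card.mp hK
  rw [hk]
  intro h
  have := (Nat.prime_dvd_prime_iff_eq hp.out Nat.prime_two).mp (hp.out.dvd_of_dvd_pow h)
  exact h2 this

end PI

open PI

theorem exists_blocks [Finite G] {p n : ℕ} [Fact p.Prime] (H : Hyp G p n) {E Q : Subgroup G} {z : G}
    (C : Cfg p n E Q z) : ∃ D1 D2 R1 R2 : Subgroup G, Blocks p E Q z D1 D2 R1 R2 := by
  have hpp : p.Prime := Fact.out
  have hn := H.three
  have hE2 : p ^ 2 ≤ Nat.card E := by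
    rw [C.hEc]
    exact Nat.pow_le_pow_right hpp.pos (by omega)
  have hnc : ¬ Q ≤ centralizer (E : Set G) := by
    intro h
    have hbot : E = ⊥ := by
      rw [eq_bot_iff]
      intro x hx
      rw [mem_bot]
      apply C.faithful x hx
      intro y hy
      exact ((mem_centralizer_iff.mp (h hy)) x hx).symm
    have := C.hEc
    rw [hbot, Subgroup.card_bot] at this
    have h2 : 1 < p ^ n := Nat.one_lt_pow (by omega) hpp.one_lt
    omega
  obtain ⟨D1, hD1, c1, hn1⟩ := exists_hyp C.hE hE2 (not_dvd_card_of_two H.odd C.hQ) C.hEQ le_rfl hnc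
  have hEU1 : E ≤ normalizer ((Q ⊓ centralizer (D1 : Set G) : Subgroup G) : Set G) :=
    le_normalizer_inf C.hEQ ((ea_le_normalizer C.hE hD1).trans
      (normalizer_le_normalizer_centralizer D1))
  obtain ⟨R1, hR1, X1⟩ := exists_xs H C inf_le_left hEU1 hn1
  have hEQ1 : E ≤ normalizer ((Q ⊓ centralizer (R1 : Set G) : Subgroup G) : Set G) :=
    le_normalizer_inf C.hEQ (X1.hER.trans (normalizer_le_normalizer_centralizer R1))
  have hD1ne : D1 ≠ ⊥ := by
    intro h
    rw [h, Subgroup.card_bot, C.hEc, one_mul] at c1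
    have h2 : p ^ 1 < p ^ n := Nat.pow_lt_pow_right hpp.one_lt (by omega)
    rw [pow_one] at h2
    omega
  have hn2 : ¬ (Q ⊓ centralizer (R1 : Set G) ≤ centralizer (D1 : Set G)) := by
    intro h
    obtain ⟨b, hb1⟩ := (Subgroup.ne_bot_iff_exists_ne_one).mp hD1ne
    apply hb1
    apply Subtype.ext
    have hbE : (b : G) ∈ E := hD1 b.2
    apply C.faithful b hbE
    apply Cfsg.Agent.Lib.Helper47.thompson_AxB (p := 2) (R := Q) (B := R1) C.hQ
      (C.hQ.to_le (hR1.trans inf_le_left)) (PG.coprime_two_of_pow H.odd (C.hE.2 b hbE))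
      (C.hEQ hbE) ((hR1.trans inf_le_left).trans le_normalizer)
    · rw [mem_centralizer_iff]
      intro r hr
      exact ((mem_centralizer_iff.mp (hR1 hr).2) b b.2).symm
    · intro x hx
      exact ((mem_centralizer_iff.mp (h hx)) b b.2).symm
  obtain ⟨D2, hD2, c2, hn3⟩ := exists_hyp C.hE hE2
    (not_dvd_card_of_two H.odd (C.hQ.to_le inf_le_left)) hEQ1 hD1 hn2
  have hne : D1 ≠ D2 := by
    intro h
    apply hn3
    rw [← h]
    exact inf_le_right
  have hEU2 : E ≤ normalizer ((Q ⊓ centralizer (R1 : Set G) ⊓ centralizer (D2 : Set G) :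
      Subgroup G) : Set G) :=
    le_normalizer_inf hEQ1 ((ea_le_normalizer C.hE hD2).trans
      (normalizer_le_normalizer_centralizer D2))
  have hn4 : ¬ (Q ⊓ centralizer (R1 : Set G) ⊓ centralizer (D2 : Set G) ≤
      centralizer (E : Set G)) := by
    intro h
    apply hn3
    exact h.trans (centralizer_le hD1)
  obtain ⟨R2, hR2, X2⟩ := exists_xs H C (inf_le_left.trans inf_le_left) hEU2 hn4
  exact ⟨D1, D2, R1, R2, ⟨hD1, hD2, hne, c1, c2, hR1.trans inf_le_left,
    hR2.trans (inf_le_left.trans inf_le_left), hR1.trans inf_le_right, hR2.trans inf_le_right,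
    hR2.trans (inf_le_left.trans inf_le_right), X1, X2⟩⟩

end Cfsg.Agent.Lib.Helper50.KM
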