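import Cfsg.Agent.Lib.Helper50.KM.PD
import Cfsg.Agent.Lib.Helper50.KM.PE
import Cfsg.Agent.Lib.Helper50.KM.PF

set_option autoImplicit false
open Cfsg Subgroup

namespace Cfsg.Agent.Lib.Helper50.KM

variable {G : Type*} [Group G]

namespace PJ

theorem zpow_invol {y : G} (hy : y * y = 1) (i : ℤ) : y ^ i = 1 ∨ y ^ i = y := by
  rcases Int.even_or_odd' i with ⟨k, rfl | rfl⟩
  · left; rw [zpow_mul, zpow_two, hy, one_zpow]
  · right; rw [zpow_add, zpow_mul, zpow_two, hy, one_zpow, one_mul, zpow_one]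

theorem mem_sup_zp {Y : Subgroup G} {y g : G} (hc : ∀ x ∈ Y, Commute x y) (hy : y * y = 1) :
    g ∈ Y ⊔ zpowers y ↔ g ∈ Y ∨ ∃ x ∈ Y, g = x * y := by
  rw [mem_sup_zpowers hc]
  constructor
  · rintro ⟨x, hx, i, rfl⟩
    rcases zpow_invol hy i with h | h
    · left; rw [h, mul_one]; exact hx
    · right; exact ⟨x, hx, by rw [h]⟩
  · rintro (h | ⟨x, hx, rfl⟩)
    · exact ⟨g, h, 0, by simp⟩
    · exact ⟨x, hx, 1, by simp⟩

theorem mem_zp {y g : G} (hy : y * y = 1) : g ∈ zpowers y ↔ g = 1 ∨ g = y := by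
  rw [mem_zpowers_iff]
  constructor
  · rintro ⟨i, rfl⟩
    exact zpow_invol hy i
  · rintro (rfl | rfl)
    · exact ⟨0, by simp⟩
    · exact ⟨1, by simp⟩

theorem step [Finite G] {Y : Subgroup G} {y : G} {k : ℕ} (hY : IsElementaryAbelian 2 Y)
    (hk : Nat.card Y = 2 ^ k) (hy : y * y = 1) (hc : ∀ x ∈ Y, Commute x y) (hyY : y ∉ Y) :
    IsElementaryAbelian 2 (Y ⊔ zpowers y) ∧ Nat.card (Y ⊔ zpowers y : Subgroup G) = 2 ^ (k + 1) := by
  haveI : Fact (Nat.Prime 2) := ⟨Nat.prime_two⟩
  have hy' : y ^ 2 = 1 := by rw [sq]; exact hy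
  refine ⟨ea_sup_zpowers hY hy' hc, ?_⟩
  rw [card_sup_zpowers hy' hc hyY, hk, pow_succ]

theorem base [Finite G] {z : G} (hz1 : z ≠ 1) (hz2 : z * z = 1) :
    IsElementaryAbelian 2 (zpowers z) ∧ Nat.card (zpowers z : Subgroup G) = 2 ^ 1 := by
  have hbot : IsElementaryAbelian 2 (⊥ : Subgroup G) := by
    have := ea_zpowers (q := 2) (y := (1 : G)) (by simp)
    rwa [zpowers_one_eq_bot] at this
  have := step (Y := (⊥ : Subgroup G)) (y := z) (k := 0) hbot (by simp) hz2
    (by intro x hx; rw [mem_bot] at hx; rw [hx]; exact Commute.one_left z)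
    (by rw [mem_bot]; exact hz1)
  rwa [bot_sup_eq] at this

theorem exists_not_mem_of_card_lt [Finite G] {K : Subgroup G} (s : Finset G)
    (h : s.card < Nat.card K) : ∃ y ∈ K, y ∉ s := by
  by_contra hcon
  push_neg at hcon
  have h1 : (K : Set G) ⊆ (s : Set G) := fun y hy => hcon y hy
  have h2 := Set.ncard_le_ncard h1 (Finset.finite_toSet s)
  rw [Set.ncard_coe_finset] at h2
  have h3 : Nat.card K = (K : Set G).ncard := rfl
  omega

theorem card_le_of_subset [Finite G] {K : Subgroup G} (s : Finset G) (h : ∀ g ∈ s, g ∈ K) :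
    s.card ≤ Nat.card K := by
  have h1 : (s : Set G) ⊆ (K : Set G) := fun y hy => h y hy
  have h2 := Set.ncard_le_ncard h1 (Set.toFinite _)
  rw [Set.ncard_coe_finset] at h2
  exact h2

theorem commute_of_conj_eq {x y0 y : G} (e : y0⁻¹ * x * y0 = y⁻¹ * x * y) :
    Commute (y * y0⁻¹) x := by
  show (y * y0⁻¹) * x = x * (y * y0⁻¹)
  calc (y * y0⁻¹) * x = y * (y0⁻¹ * x * y0) * y0⁻¹ := by group
    _ = y * (y⁻¹ * x * y) * y0⁻¹ := by rw [e]
    _ = x * (y * y0⁻¹) := by group

/-- the centralizer of a non-central element has index at most two -/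
theorem card_le_two_mul [Finite G] {E R : Subgroup G} {z : G} (X : Xs E R z) {x : G} (hx : x ∈ R) :
    Nat.card R ≤ Nat.card (R ⊓ centralizer {x} : Subgroup G) * 2 := by
  classical
  by_cases hall : ∀ y ∈ R, Commute y x
  · have : R ⊓ centralizer {x} = R := by
      rw [inf_eq_left]
      intro y hy
      rw [mem_centralizer_iff]
      intro h hh
      rw [Set.mem_singleton_iff] at hh
      rw [hh]
      exact (hall y hy).symm.eq
    rw [this]
    omega
  push_neg at hall
  obtain ⟨y0, hy0, hy0x⟩ := hall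
  have hanti : ∀ y ∈ R, ¬ Commute y x → y⁻¹ * x * y = x * z := by
    intro y hy hyx
    rcases X.comm x hx y hy with h | h
    · exact absurd h.symm hyx
    · rw [mul_assoc, h]; group
  have hmem : ∀ y ∈ R, Commute y x → y ∈ R ⊓ centralizer {x} := by
    intro y hy hyx
    refine mem_inf.mpr ⟨hy, ?_⟩
    rw [mem_centralizer_iff]
    intro h hh
    rw [Set.mem_singleton_iff] at hh
    rw [hh]
    exact hyx.symm.eq
  let g : ↥R → ↥(R ⊓ centralizer {x} : Subgroup G) × Bool := fun y =>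
    if h : Commute (y : G) x then (⟨y, hmem y y.2 h⟩, true)
    else (⟨y * y0⁻¹, hmem _ (R.mul_mem y.2 (R.inv_mem hy0))
      (commute_of_conj_eq ((hanti y0 hy0 hy0x).trans (hanti y y.2 h).symm))⟩, false)
  have hg : Function.Injective g := by
    intro a b hab
    simp only [g] at hab
    split_ifs at hab with h1 h2 h2
    · have := congrArg (fun t => (t.1 : G)) hab
      exact Subtype.ext this
    · simp at hab
    · simp at hab
    · have := congrArg (fun t => (t.1 : G)) hab
      simp only at this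
      exact Subtype.ext (mul_right_cancel this)
  have := Nat.card_le_card_of_injective g hg
  rw [Nat.card_prod] at this
  simpa using this

theorem block [Finite G] {p n : ℕ} [Fact p.Prime] (H : Hyp G p n) (hp3 : p ≠ 3)
    {E Q : Subgroup G} {z : G} (C : Cfg p n E Q z) {D R : Subgroup G} (hD : D ≤ E)
    (c : Nat.card D * p = Nat.card E) (hRQ : R ≤ Q) (hRD : R ≤ centralizer (D : Set G))
    (X : Xs E R z) :
    ∃ s ∈ R, ∃ a ∈ R, s ≠ 1 ∧ s ≠ z ∧ s * s = 1 ∧ Commute s a ∧ a * a = z ∧ a ≠ s ∧ a ≠ s * z := by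
  classical
  haveI : Fact (Nat.Prime 2) := ⟨Nat.prime_two⟩
  have hpp : p.Prime := Fact.out
  obtain ⟨e, heE, heD, -⟩ := exists_outside hD hD c c
  have hsup := hyp_sup_zpowers hD c heE heD
  have hf : ∀ x ∈ R, Commute e x → x = 1 ∨ x = z := by
    intro x hx hex
    refine X.fixed x hx ?_
    have hle : E ≤ centralizer {x} := by
      rw [← hsup, sup_le_iff, zpowers_le]
      constructor
      · intro d hd
        rw [mem_centralizer_iff]
        intro h hh
        rw [Set.mem_singleton_iff] at hh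
        rw [hh]
        exact ((mem_centralizer_iff.mp (hRD hx)) d hd).symm
      · rw [mem_centralizer_iff]
        intro h hh
        rw [Set.mem_singleton_iff] at hh
        rw [hh]
        exact hex.symm.eq
    intro e' he'
    exact ((mem_centralizer_iff.mp (hle he')) x rfl).symm
  obtain ⟨x0, hx0R, hx01, hx0z⟩ := X.big
  -- (1)
  have h16 : 16 ≤ Nat.card R := by
    have hR2 : IsPGroup 2 R := C.hQ.to_le hRQ
    obtain ⟨m, hm⟩ := (IsPGroup.iff_card (p := 2)).mp hR2
    let f : Function.End ↥R := fun x => ⟨e * x * e⁻¹, (mem_normalizer_iff.mp (X.hER heE) x).mp x.2⟩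
    have hfk : ∀ (k : ℕ) (x : ↥R), (((f ^ k) x : ↥R) : G) = e ^ k * x * (e ^ k)⁻¹ := by
      intro k
      induction k with
      | zero =>
        intro x
        simp only [pow_zero, one_mul, inv_one, mul_one]
        rfl
      | succ k ih =>
        intro x
        rw [pow_succ']
        show ((f ((f ^ k) x) : ↥R) : G) = _
        show e * ((f ^ k) x : ↥R) * e⁻¹ = _
        rw [ih, pow_succ']
        group
    have hep : e ^ p = 1 := C.hE.2 e heE
    have hfp : f ^ p ^ 1 = 1 := by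
      funext x
      apply Subtype.ext
      rw [pow_one, hfk, hep]
      simp only [one_mul, inv_one, mul_one]
      rfl
    haveI : Fintype ↥R := Fintype.ofFinite _
    have hmod := Equiv.Perm.card_fixedPoints_modEq (f := f) (p := p) (n := 1) hfp
    have hfix : Function.fixedPoints f = {1, ⟨z, X.hzR⟩} := by
      ext x
      simp only [Function.mem_fixedPoints, Function.IsFixedPt, Set.mem_insert_iff,
        Set.mem_singleton_iff]
      constructor
      · intro h
        have h1 : e * x * e⁻¹ = x := congrArg Subtype.val h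
        have h2 : Commute e (x : G) := by
          show e * x = x * e
          calc e * x = (e * x * e⁻¹) * e := by group
            _ = x * e := by rw [h1]
        rcases hf x x.2 h2 with h3 | h3
        · left; exact Subtype.ext h3
        · right; exact Subtype.ext h3
      · rintro (rfl | rfl)
        · apply Subtype.ext
          show e * 1 * e⁻¹ = 1
          group
        · apply Subtype.ext
          show e * z * e⁻¹ = z
          rw [(X.hzE e heE).eq]
          group
    have hc2 : Fintype.card (Function.fixedPoints f) = 2 := by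
      rw [← Nat.card_eq_fintype_card, hfix]
      show Set.ncard _ = 2
      apply Set.ncard_pair
      intro h
      exact X.hz1 (congrArg Subtype.val h).symm
    rw [hc2, ← Nat.card_eq_fintype_card, hm] at hmod
    have h3 : 3 ≤ Nat.card R := by
      have := card_le_of_subset (K := R) ({1, z, x0} : Finset G) (by
        intro g hg
        simp only [Finset.mem_insert, Finset.mem_singleton] at hg
        rcases hg with rfl | rfl | rfl
        · exact R.one_mem
        · exact X.hzR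
        · exact hx0R)
      have h33 : ({1, z, x0} : Finset G).card = 3 :=
        Finset.card_eq_three.mpr ⟨1, z, x0, X.hz1.symm, hx01.symm, hx0z.symm, rfl⟩
      omega
    rw [hm] at h3 ⊢
    have hm4 : 4 ≤ m := by
      by_contra hlt
      have hd : p ∣ 2 ^ m - 2 := by
        have h2le : 2 ≤ 2 ^ m := by omega
        exact (Nat.modEq_iff_dvd' h2le).mp hmod.symm
      have hm' : m = 0 ∨ m = 1 ∨ m = 2 ∨ m = 3 := by omega
      rcases hm' with rfl | rfl | rfl | rfl
      · norm_num at h3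
      · norm_num at h3
      · norm_num at hd
        exact H.odd ((Nat.prime_dvd_prime_iff_eq hpp Nat.prime_two).mp hd)
      · have hd' : p ∣ 2 * 3 := by
          norm_num at hd ⊢
          exact hd
        rcases (Nat.Prime.dvd_mul hpp).mp hd' with h | h
        · exact H.odd ((Nat.prime_dvd_prime_iff_eq hpp Nat.prime_two).mp h)
        · exact hp3 ((Nat.prime_dvd_prime_iff_eq hpp Nat.prime_three).mp h)
    calc 16 = 2 ^ 4 := by norm_num
      _ ≤ 2 ^ m := Nat.pow_le_pow_right (by norm_num) hm4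
  -- (2)
  have h8 : ∀ x ∈ R, 8 ≤ Nat.card (R ⊓ centralizer {x} : Subgroup G) := by
    intro x hx
    have := card_le_two_mul X hx
    omega
  have hcm : ∀ x y, y ∈ R ⊓ centralizer {x} → y ∈ R ∧ Commute x y := by
    intro x y hy
    obtain ⟨h1, h2⟩ := mem_inf.mp hy
    exact ⟨h1, (mem_centralizer_iff.mp h2) x rfl⟩
  -- (3)
  obtain ⟨s, hsR, hs1, hsz, hs2⟩ : ∃ s ∈ R, s ≠ 1 ∧ s ≠ z ∧ s * s = 1 := by
    by_contra hno
    push_neg at hno
    have hsq : ∀ x ∈ R, x ≠ 1 → x ≠ z → x * x = z := by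
      intro x hx h1 h2
      rcases X.sq x hx with h | h
      · exact absurd h (hno x hx h1 h2)
      · exact h
    have hx2 := hsq x0 hx0R hx01 hx0z
    obtain ⟨y, hy, hynot⟩ := exists_not_mem_of_card_lt (K := R ⊓ centralizer {x0})
      ({1, x0, z, x0 * z} : Finset G) (lt_of_le_of_lt Finset.card_le_four (by have := h8 x0 hx0R; omega))
    simp only [Finset.mem_insert, Finset.mem_singleton, not_or] at hynot
    obtain ⟨hy1, hyx, hyz, hyxz⟩ := hynot
    obtain ⟨hyR, hxy⟩ := hcm x0 y hy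
    have hy2 := hsq y hyR hy1 hyz
    have hw2 : (x0 * y) * (x0 * y) = 1 := by
      calc (x0 * y) * (x0 * y) = x0 * (y * x0) * y := by group
        _ = x0 * (x0 * y) * y := by rw [hxy.eq]
        _ = (x0 * x0) * (y * y) := by group
        _ = 1 := by rw [hx2, hy2, X.hz2]
    refine hno (x0 * y) (R.mul_mem hx0R hyR) ?_ ?_ hw2
    · intro h
      apply hyxz
      have h1 : x0 * (x0 * z) = 1 := by rw [← mul_assoc, hx2, X.hz2]
      exact mul_left_cancel (h.trans h1.symm)
    · intro h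
      apply hyx
      exact mul_left_cancel (h.trans hx2.symm)
  -- (4)
  obtain ⟨a, ha, hanot⟩ := exists_not_mem_of_card_lt (K := R ⊓ centralizer {s})
    ({1, z, s, s * z} : Finset G) (lt_of_le_of_lt Finset.card_le_four (by have := h8 s hsR; omega))
  simp only [Finset.mem_insert, Finset.mem_singleton, not_or] at hanot
  obtain ⟨ha1, haz, has, hasz⟩ := hanot
  obtain ⟨haR, hsa⟩ := hcm s a ha
  refine ⟨s, hsR, a, haR, hs1, hsz, hs2, hsa, ?_, has, hasz⟩
  rcases X.sq a haR with h | h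
  · exfalso
    obtain ⟨hY0, hc0⟩ := base X.hz1 X.hz2
    have hm0 : ∀ g, g ∈ zpowers z ↔ g = 1 ∨ g = z := fun g => mem_zp X.hz2
    have hcs : ∀ x ∈ zpowers z, Commute x s := by
      intro x hx
      rcases (hm0 x).mp hx with rfl | rfl
      · exact Commute.one_left s
      · exact (X.hzc s hsR).symm
    obtain ⟨hY1, hc1⟩ := step hY0 hc0 hs2 hcs (by
      intro hh
      rcases (hm0 s).mp hh with h1 | h1
      · exact hs1 h1
      · exact hsz h1)
    have hm1 : ∀ g, g ∈ zpowers z ⊔ zpowers s → g = 1 ∨ g = z ∨ g = s ∨ g = s * z := by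
      intro g hg
      rcases (mem_sup_zp hcs hs2).mp hg with h1 | ⟨x, hx, rfl⟩
      · rcases (hm0 g).mp h1 with h2 | h2
        · left; exact h2
        · right; left; exact h2
      · rcases (hm0 x).mp hx with rfl | rfl
        · right; right; left; simp
        · right; right; right; exact (X.hzc s hsR).symm.eq
    have hca : ∀ x ∈ zpowers z ⊔ zpowers s, Commute x a := by
      intro x hx
      rcases hm1 x hx with rfl | rfl | rfl | rfl
      · exact Commute.one_left a
      · exact (X.hzc a haR).symm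
      · exact hsa
      · exact hsa.mul_left (X.hzc a haR).symm
    obtain ⟨hY2, hc2⟩ := step hY1 hc1 h hca (by
      intro hh
      rcases hm1 a hh with h1 | h1 | h1 | h1
      · exact ha1 h1
      · exact haz h1
      · exact has h1
      · exact hasz h1)
    refine PF.no8 H C.hE C.hEc hD c hY2 ?_ hc2.ge
    rw [sup_le_iff, sup_le_iff, zpowers_le, zpowers_le, zpowers_le]
    exact ⟨⟨hRD X.hzR, hRD hsR⟩, hRD haR⟩
  · exact h

end PJ

open PJ in
theorem false_of_ne_three [Finite G] {p n : ℕ} [Fact p.Prime] (H : Hyp G p n) (hp3 : p ≠ 3)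
    {E Q : Subgroup G} {z : G} (C : Cfg p n E Q z) {D1 D2 R1 R2 : Subgroup G}
    (B : Blocks p E Q z D1 D2 R1 R2) : False := by
  have hpp : p.Prime := Fact.out
  have h3 := H.three
  obtain ⟨s1, hs1R, a1, ha1R, hs11, hs1z, hs12, hsa1, ha12, ha1s, ha1sz⟩ :=
    block H hp3 C B.hD1 B.c1 B.hR1 B.hRD1 B.X1
  obtain ⟨s2, hs2R, a2, ha2R, hs21, hs2z, hs22, hsa2, ha22, ha2s, ha2sz⟩ :=
    block H hp3 C B.hD2 B.c2 B.hR2 B.hRD2 B.X2
  have X1 := B.X1
  have X2 := B.X2
  -- elements of R1 and R2 commute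
  have hRR : ∀ x ∈ R1, ∀ y ∈ R2, Commute x y := by
    intro x hx y hy
    exact (mem_centralizer_iff.mp (B.hRR hy)) x hx
  have hint : ∀ x ∈ R1, x ∈ R2 → x = 1 ∨ x = z := by
    intro x hx hx2
    exact X1.center x hx (fun y hy => hRR y hy x hx2)
  obtain ⟨hY0, hc0⟩ := base X1.hz1 X1.hz2
  have hm0 : ∀ g, g ∈ zpowers z ↔ g = 1 ∨ g = z := fun g => mem_zp X1.hz2
  have hcs : ∀ x ∈ zpowers z, Commute x s1 := by
    intro x hx
    rcases (hm0 x).mp hx with rfl | rfl
    · exact Commute.one_left s1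
    · exact (X1.hzc s1 hs1R).symm
  obtain ⟨hY1, hc1⟩ := step hY0 hc0 hs12 hcs (by
    intro hh
    rcases (hm0 s1).mp hh with h1 | h1
    · exact hs11 h1
    · exact hs1z h1)
  have hm1 : ∀ g, g ∈ zpowers z ⊔ zpowers s1 → g = 1 ∨ g = z ∨ g = s1 ∨ g = s1 * z := by
    intro g hg
    rcases (mem_sup_zp hcs hs12).mp hg with h1 | ⟨x, hx, rfl⟩
    · rcases (hm0 g).mp h1 with h2 | h2
      · left; exact h2
      · right; left; exact h2
    · rcases (hm0 x).mp hx with rfl | rfl
      · right; right; left; simp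
      · right; right; right; exact (X1.hzc s1 hs1R).symm.eq
  have hY1R : zpowers z ⊔ zpowers s1 ≤ R1 := by
    rw [sup_le_iff, zpowers_le, zpowers_le]
    exact ⟨X1.hzR, hs1R⟩
  have hcs2 : ∀ x ∈ zpowers z ⊔ zpowers s1, Commute x s2 := fun x hx => hRR x (hY1R hx) s2 hs2R
  obtain ⟨hY2, hc2⟩ := step hY1 hc1 hs22 hcs2 (by
    intro hh
    rcases hint s2 (hY1R hh) hs2R with h1 | h1
    · exact hs21 h1
    · exact hs2z h1)
  have ha12' : Commute a1 a2 := hRR a1 ha1R a2 ha2R
  have ht2 : (a1 * a2) * (a1 * a2) = 1 := by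
    calc (a1 * a2) * (a1 * a2) = a1 * (a2 * a1) * a2 := by group
      _ = a1 * (a1 * a2) * a2 := by rw [ha12'.eq]
      _ = (a1 * a1) * (a2 * a2) := by group
      _ = 1 := by rw [ha12, ha22, X1.hz2]
  have hca1 : ∀ x ∈ zpowers z ⊔ zpowers s1, Commute x a1 := by
    intro x hx
    rcases hm1 x hx with rfl | rfl | rfl | rfl
    · exact Commute.one_left a1
    · exact (X1.hzc a1 ha1R).symm
    · exact hsa1
    · exact hsa1.mul_left (X1.hzc a1 ha1R).symm
  have hct : ∀ x ∈ zpowers z ⊔ zpowers s1 ⊔ zpowers s2, Commute x (a1 * a2) := by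
    intro x hx
    rcases (mem_sup_zp hcs2 hs22).mp hx with h1 | ⟨y, hy, rfl⟩
    · exact (hca1 x h1).mul_right (hRR x (hY1R h1) a2 ha2R)
    · refine Commute.mul_left ((hca1 y hy).mul_right (hRR y (hY1R hy) a2 ha2R)) ?_
      exact ((hRR a1 ha1R s2 hs2R).symm).mul_right hsa2
  have key : ∀ y ∈ zpowers z ⊔ zpowers s1, ∀ w ∈ R2, a1 * a2 = y * w → False := by
    intro y hy w hw h
    have h1 : y⁻¹ * a1 = w * a2⁻¹ := by
      calc y⁻¹ * a1 = y⁻¹ * (a1 * a2) * a2⁻¹ := by group
        _ = y⁻¹ * (y * w) * a2⁻¹ := by rw [h]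
        _ = w * a2⁻¹ := by group
    have h2 : y⁻¹ * a1 ∈ R1 := R1.mul_mem (R1.inv_mem (hY1R hy)) ha1R
    have h3 : y⁻¹ * a1 ∈ R2 := by rw [h1]; exact R2.mul_mem hw (R2.inv_mem ha2R)
    have h4 : a1 ∈ zpowers z ⊔ zpowers s1 := by
      have h5 : y⁻¹ * a1 ∈ zpowers z ⊔ zpowers s1 := by
        rcases hint _ h2 h3 with h6 | h6
        · rw [h6]; exact one_mem _
        · rw [h6]; exact (le_sup_left : zpowers z ≤ _) (mem_zpowers z)
      have := mul_mem hy h5
      rwa [mul_inv_cancel_left] at this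
    rcases hm1 a1 h4 with h5 | h5 | h5 | h5
    · rw [h5, one_mul] at ha12
      exact X1.hz1 ha12.symm
    · rw [h5, X1.hz2] at ha12
      exact X1.hz1 ha12.symm
    · exact ha1s h5
    · exact ha1sz h5
  obtain ⟨hY3, hc3⟩ := step hY2 hc2 ht2 hct (by
    intro hh
    rcases (mem_sup_zp hcs2 hs22).mp hh with h1 | ⟨y, hy, h1⟩
    · exact key _ h1 1 R2.one_mem (by rw [mul_one])
    · exact key y hy s2 hs2R h1)
  obtain ⟨-, hinf⟩ := hyp_sup_inf C.hE B.hD1 B.hD2 B.c1 B.c2 B.hne
  have hDc : Nat.card (D1 ⊓ D2 : Subgroup G) = p ^ (n - 2) := by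
    rw [C.hEc] at hinf
    obtain ⟨k, rfl⟩ : ∃ k, n = k + 2 := ⟨n - 2, by omega⟩
    rw [pow_add] at hinf
    simpa using Nat.eq_of_mul_eq_mul_right (pow_pos hpp.pos 2) hinf
  have hR1D : R1 ≤ centralizer ((D1 ⊓ D2 : Subgroup G) : Set G) :=
    B.hRD1.trans (centralizer_le (by exact_mod_cast (inf_le_left : D1 ⊓ D2 ≤ D1)))
  have hR2D : R2 ≤ centralizer ((D1 ⊓ D2 : Subgroup G) : Set G) :=
    B.hRD2.trans (centralizer_le (by exact_mod_cast (inf_le_right : D1 ⊓ D2 ≤ D2)))
  have hXD : zpowers z ⊔ zpowers s1 ⊔ zpowers s2 ⊔ zpowers (a1 * a2) ≤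
      centralizer ((D1 ⊓ D2 : Subgroup G) : Set G) := by
    rw [sup_le_iff, sup_le_iff, sup_le_iff, zpowers_le, zpowers_le, zpowers_le, zpowers_le]
    exact ⟨⟨⟨hR1D X1.hzR, hR1D hs1R⟩, hR2D hs2R⟩, mul_mem (hR1D ha1R) (hR2D ha2R)⟩
  have := no_pair H (ea_mono C.hE (inf_le_left.trans B.hD1)) hY3 hXD (r := n - 2) (k := 4)
    (by omega) (by omega) hDc.ge hc3.ge
  omega

end Cfsg.Agent.Lib.Helper50.KM
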