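import Cfsg.Agent.Lib.Helper50.KM.Base

set_option autoImplicit false
open Cfsg Subgroup

namespace Cfsg.Agent.Lib.Helper50.KM

variable {G : Type*} [Group G]

namespace PK

/-- an element of square `z` in a block. -/
theorem exists_sq {E R : Subgroup G} {z : G} (X : Xs E R z) : ∃ a ∈ R, a * a = z := by
  obtain ⟨x, hx, hx1, hxz⟩ := X.big
  obtain ⟨y, hy, hyx⟩ : ∃ y ∈ R, ¬ Commute y x := by
    by_contra hcon
    push Not at hcon
    rcases X.center x hx hcon with h | h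
    · exact hx1 h
    · exact hxz h
  rcases X.comm x hx y hy with h | h
  · exact absurd h.symm hyx
  rcases X.sq x hx with hxx | hxx
  swap
  · exact ⟨x, hx, hxx⟩
  rcases X.sq y hy with hyy | hyy
  swap
  · exact ⟨y, hy, hyy⟩
  refine ⟨x * y, R.mul_mem hx hy, ?_⟩
  have hxzc : x * z = z * x := (X.hzc x hx).eq
  have hyzc : y * z = z * y := (X.hzc y hy).eq
  calc x * y * (x * y) = y * x * z * (x * y) := by rw [h]
    _ = y * x * (z * x) * y := by group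
    _ = y * x * (x * z) * y := by rw [hxzc]
    _ = y * (x * x) * (z * y) := by group
    _ = y * (x * x) * (y * z) := by rw [hyzc]
    _ = z := by rw [hxx, mul_one, ← mul_assoc, hyy, one_mul]

/-- three pairwise anticommuting elements of square `z`, permuted by `e`. -/
theorem exists_triple {E R : Subgroup G} {z e : G} (X : Xs E R z) (he : e ∈ E) (he3 : e ^ 3 = 1)
    (hf : ∀ x ∈ R, Commute e x → x = 1 ∨ x = z) :
    ∃ a b c : G, a ∈ R ∧ b ∈ R ∧ c ∈ R ∧ e * a * e⁻¹ = b ∧ e * b * e⁻¹ = c ∧ e * c * e⁻¹ = a ∧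
      a * a = z ∧ b * b = z ∧ c * c = z ∧ a * b = b * a * z ∧ b * c = c * b * z ∧
      c * a = a * c * z := by
  obtain ⟨a, ha, haa⟩ := exists_sq X
  have hcl : ∀ x ∈ R, e * x * e⁻¹ ∈ R := fun x hx => (mem_normalizer_iff.1 (X.hER he) x).1 hx
  have hez : e * z * e⁻¹ = z := by rw [(X.hzE e he).eq, mul_inv_cancel_right]
  have hmul : ∀ x y : G, e * (x * y) * e⁻¹ = (e * x * e⁻¹) * (e * y * e⁻¹) := by
    intro x y; group
  have h3 : ∀ x : G, e * (e * (e * x * e⁻¹) * e⁻¹) * e⁻¹ = x := by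
    intro x
    have h1 : e * (e * (e * x * e⁻¹) * e⁻¹) * e⁻¹ = e ^ 3 * x * (e ^ 3)⁻¹ := by
      simp only [pow_succ, pow_zero, one_mul, mul_inv_rev, mul_assoc]
    rw [h1, he3]; simp
  obtain ⟨b, hb⟩ : ∃ b, b = e * a * e⁻¹ := ⟨_, rfl⟩
  obtain ⟨c, hc⟩ : ∃ c, c = e * b * e⁻¹ := ⟨_, rfl⟩
  have hbR : b ∈ R := hb ▸ hcl a ha
  have hcR : c ∈ R := hc ▸ hcl b hbR
  have hca : e * c * e⁻¹ = a := by rw [hc, hb]; exact h3 a
  have hbb : b * b = z := by rw [hb, ← hmul, haa, hez]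
  have hcc : c * c = z := by rw [hc, ← hmul, hbb, hez]
  have hzz := X.hz2
  have hzi : z⁻¹ = z := inv_eq_of_mul_eq_one_left hzz
  -- `y = a b c`
  have hyR : a * b * c ∈ R := R.mul_mem (R.mul_mem ha hbR) hcR
  have hey : e * (a * b * c) * e⁻¹ = a⁻¹ * (a * b * c) * a := by
    rw [hmul, hmul, ← hb, ← hc, hca]; group
  have hy : a * b * c = 1 ∨ a * b * c = z := by
    apply hf _ hyR
    rcases X.comm _ hyR a ha with h | h
    · have h1 : e * (a * b * c) * e⁻¹ = a * b * c := by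
        rw [hey, mul_assoc, h]; group
      exact mul_inv_eq_iff_eq_mul.1 h1
    · exfalso
      have h1 : e * (a * b * c) * e⁻¹ = a * b * c * z := by
        rw [hey, mul_assoc, h]; group
      have h2 := h3 (a * b * c)
      have h4 : e * (a * b * c * z) * e⁻¹ = a * b * c := by
        rw [hmul, h1, hez, mul_assoc (a * b * c), hzz, mul_one]
      rw [h1, h4, h1] at h2
      exact X.hz1 (mul_eq_left.1 h2)
  have hab2 : a * b * (a * b) = z := by
    have hci : c⁻¹ * c⁻¹ = z := by rw [← mul_inv_rev, hcc, hzi]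
    rcases hy with h | h
    · have : a * b = c⁻¹ := eq_inv_of_mul_eq_one_left h
      rw [this, hci]
    · have : a * b = z * c⁻¹ := by rw [← h]; group
      have hzc : c⁻¹ * z = z * c⁻¹ := ((X.hzc c hcR).inv_left).eq
      rw [this]
      calc z * c⁻¹ * (z * c⁻¹) = z * (c⁻¹ * z) * c⁻¹ := by group
        _ = z * (z * c⁻¹) * c⁻¹ := by rw [hzc]
        _ = (z * z) * (c⁻¹ * c⁻¹) := by group
        _ = z := by rw [hzz, hci, one_mul]
  have hab : a * b = b * a * z := by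
    rcases X.comm a ha b hbR with h | h
    · exfalso
      have h1 : a * b * (a * b) = 1 := by
        calc a * b * (a * b) = a * (b * a) * b := by group
          _ = a * (a * b) * b := by rw [h]
          _ = (a * a) * (b * b) := by group
          _ = 1 := by rw [haa, hbb, hzz]
      rw [h1] at hab2
      exact X.hz1 hab2.symm
    · exact h
  have hbc : b * c = c * b * z := by
    have := congrArg (fun x => e * x * e⁻¹) hab
    simp only [hmul, ← hb, ← hc, hez] at this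
    exact this
  have hca' : c * a = a * c * z := by
    have := congrArg (fun x => e * x * e⁻¹) hbc
    simp only [hmul, ← hc, hca, hez] at this
    exact this
  exact ⟨a, b, c, ha, hbR, hcR, hb.symm, hc.symm, hca, haa, hbb, hcc, hab, hbc, hca'⟩

/-- products of anticommuting pairs from commuting blocks commute. -/
theorem commute_prod {x1 y1 x2 y2 z : G} (hzz : z * z = 1) (h1 : x1 * y1 = y1 * x1 * z)
    (h2 : x2 * y2 = y2 * x2 * z) (c1 : Commute x2 y1) (c2 : Commute x1 y2)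
    (cz : Commute z (y2 * x2)) : Commute (x1 * x2) (y1 * y2) := by
  show x1 * x2 * (y1 * y2) = y1 * y2 * (x1 * x2)
  calc x1 * x2 * (y1 * y2) = x1 * (x2 * y1) * y2 := by group
    _ = x1 * (y1 * x2) * y2 := by rw [c1.eq]
    _ = (x1 * y1) * (x2 * y2) := by group
    _ = y1 * x1 * z * (y2 * x2 * z) := by rw [h1, h2]
    _ = y1 * x1 * (z * (y2 * x2)) * z := by group
    _ = y1 * x1 * ((y2 * x2) * z) * z := by rw [cz.eq]
    _ = y1 * (x1 * y2) * x2 * (z * z) := by group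
    _ = y1 * (y2 * x1) * x2 * (z * z) := by rw [c2.eq]
    _ = y1 * y2 * (x1 * x2) := by rw [hzz]; group

theorem sq_prod {x1 x2 z : G} (hzz : z * z = 1) (h1 : x1 * x1 = z) (h2 : x2 * x2 = z)
    (c : Commute x2 x1) : x1 * x2 * (x1 * x2) = 1 := by
  calc x1 * x2 * (x1 * x2) = x1 * (x2 * x1) * x2 := by group
    _ = x1 * (x1 * x2) * x2 := by rw [c.eq]
    _ = (x1 * x1) * (x2 * x2) := by group
    _ = 1 := by rw [h1, h2, hzz]

/-- conjugating a product `x1 x2 y1 y2` by an element commuting with the second block. -/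
theorem conj_prod {g x1 x2 y1 y2 s s' : G} (h1 : g * x1 * g⁻¹ = x1 * s) (h2 : g * y1 * g⁻¹ = y1 * s')
    (c1 : Commute g x2) (c2 : Commute g y2) (cs : Commute s (x2 * (y1 * y2)))
    (cs' : Commute s' y2) :
    g * (x1 * x2 * (y1 * y2)) * g⁻¹ = x1 * x2 * (y1 * y2) * (s * s') := by
  have e1 : g * x2 * g⁻¹ = x2 := by rw [c1.eq, mul_inv_cancel_right]
  have e2 : g * y2 * g⁻¹ = y2 := by rw [c2.eq, mul_inv_cancel_right]
  calc g * (x1 * x2 * (y1 * y2)) * g⁻¹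
      = (g * x1 * g⁻¹) * (g * x2 * g⁻¹) * ((g * y1 * g⁻¹) * (g * y2 * g⁻¹)) := by group
    _ = x1 * s * x2 * (y1 * s' * y2) := by rw [h1, h2, e1, e2]
    _ = x1 * s * x2 * (y1 * (s' * y2)) := by group
    _ = x1 * s * x2 * (y1 * (y2 * s')) := by rw [cs'.eq]
    _ = x1 * (s * (x2 * (y1 * y2))) * s' := by group
    _ = x1 * ((x2 * (y1 * y2)) * s) * s' := by rw [cs.eq]
    _ = x1 * x2 * (y1 * y2) * (s * s') := by group

theorem pow_of_sq {z : G} (hzz : z * z = 1) (i : ℕ) : z ^ i = if Even i then 1 else z := by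
  rcases Nat.even_or_odd' i with ⟨k, rfl | rfl⟩
  · rw [if_pos (even_two_mul k), pow_mul, sq, hzz, one_pow]
  · rw [if_neg (by simp), pow_succ, pow_mul, sq, hzz, one_pow, one_mul]

end PK

theorem exists_four {E R1 R2 : Subgroup G} {z e : G} (X1 : Xs E R1 z) (X2 : Xs E R2 z)
    (hRR : R2 ≤ centralizer (R1 : Set G)) (he : e ∈ E) (he3 : e ^ 3 = 1)
    (hf1 : ∀ x ∈ R1, Commute e x → x = 1 ∨ x = z) (hf2 : ∀ x ∈ R2, Commute e x → x = 1 ∨ x = z) :
    ∃ v1 v2 : G, v1 ∈ R1 ⊔ R2 ∧ v2 ∈ R1 ⊔ R2 ∧ v1 ≠ 1 ∧ v1 * v1 = 1 ∧ v1 ≠ v2 ∧ v1 * v2 = v2 * v1 ∧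
      e * v1 * e⁻¹ = v2 ∧ e * v2 * e⁻¹ = v1 * v2 ∧
      ∀ i j : ℕ, ∃ g ∈ R1, g * v1 * g⁻¹ = v1 * z ^ i ∧ g * v2 * g⁻¹ = v2 * z ^ j := by
  obtain ⟨a1, b1, c1, ha1, hb1, hc1, eab1, ebc1, eca1, aa1, bb1, cc1, ab1, bc1, ca1⟩ :=
    PK.exists_triple X1 he he3 hf1
  obtain ⟨a2, b2, c2, ha2, hb2, hc2, eab2, ebc2, eca2, aa2, bb2, cc2, ab2, bc2, ca2⟩ :=
    PK.exists_triple X2 he he3 hf2
  have hzz := X1.hz2
  -- commutation between the blocks : `x1 * x2 = x2 * x1`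
  have C : ∀ x1 ∈ R1, ∀ x2 ∈ R2, Commute x1 x2 := fun x1 h1 x2 h2 =>
    (mem_centralizer_iff.1 (hRR h2)) x1 h1
  have Z1 : ∀ x ∈ R1, Commute z x := fun x hx => (X1.hzc x hx).symm
  have Z2 : ∀ x ∈ R2, Commute z x := fun x hx => (X2.hzc x hx).symm
  have hmul : ∀ x y : G, e * (x * y) * e⁻¹ = (e * x * e⁻¹) * (e * y * e⁻¹) := by
    intro x y; group
  obtain ⟨t0, ht0⟩ : ∃ t, t = a1 * a2 := ⟨_, rfl⟩
  obtain ⟨t1, ht1⟩ : ∃ t, t = b1 * b2 := ⟨_, rfl⟩
  obtain ⟨t2, ht2⟩ : ∃ t, t = c1 * c2 := ⟨_, rfl⟩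
  have e01 : e * t0 * e⁻¹ = t1 := by rw [ht0, ht1, hmul, eab1, eab2]
  have e12 : e * t1 * e⁻¹ = t2 := by rw [ht1, ht2, hmul, ebc1, ebc2]
  have e20 : e * t2 * e⁻¹ = t0 := by rw [ht2, ht0, hmul, eca1, eca2]
  have s0 : t0 * t0 = 1 := by rw [ht0]; exact PK.sq_prod hzz aa1 aa2 (C a1 ha1 a2 ha2).symm
  have s1 : t1 * t1 = 1 := by rw [ht1]; exact PK.sq_prod hzz bb1 bb2 (C b1 hb1 b2 hb2).symm
  have s2 : t2 * t2 = 1 := by rw [ht2]; exact PK.sq_prod hzz cc1 cc2 (C c1 hc1 c2 hc2).symm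
  have c01 : Commute t0 t1 := by
    rw [ht0, ht1]
    exact PK.commute_prod hzz ab1 ab2 (C b1 hb1 a2 ha2).symm (C a1 ha1 b2 hb2)
      (Z2 _ (R2.mul_mem hb2 ha2))
  have c12 : Commute t1 t2 := by
    rw [ht1, ht2]
    exact PK.commute_prod hzz bc1 bc2 (C c1 hc1 b2 hb2).symm (C b1 hb1 c2 hc2)
      (Z2 _ (R2.mul_mem hc2 hb2))
  have c20 : Commute t2 t0 := by
    rw [ht2, ht0]
    exact PK.commute_prod hzz ca1 ca2 (C a1 ha1 c2 hc2).symm (C c1 hc1 a2 ha2)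
      (Z2 _ (R2.mul_mem ha2 hc2))
  have hne : t1 ≠ t0 := by
    intro h
    rw [ht1, ht0] at h
    -- `a1⁻¹ b1 = a2 b2⁻¹`
    have h1 : a1⁻¹ * b1 = a2 * b2⁻¹ := by
      have := congrArg (fun x => a1⁻¹ * x * b2⁻¹) h
      simpa [mul_assoc] using this
    have h2 : Commute a1 (a1⁻¹ * b1) := by
      rw [h1]
      exact C a1 ha1 _ (R2.mul_mem ha2 (R2.inv_mem hb2))
    have h3 : a1 * b1 = b1 * a1 := by
      have := h2.eq
      simpa [mul_assoc] using congrArg (fun x => a1 * x) this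
    rw [h3] at ab1
    exact X1.hz1 (mul_eq_left.1 ab1.symm)
  have m0 : t0 ∈ R1 ⊔ R2 := ht0 ▸ mul_mem (mem_sup_left ha1) (mem_sup_right ha2)
  have m1 : t1 ∈ R1 ⊔ R2 := ht1 ▸ mul_mem (mem_sup_left hb1) (mem_sup_right hb2)
  have m2 : t2 ∈ R1 ⊔ R2 := ht2 ▸ mul_mem (mem_sup_left hc1) (mem_sup_right hc2)
  refine ⟨t0 * t1, t1 * t2, mul_mem m0 m1, mul_mem m1 m2, ?_, ?_, ?_, ?_, ?_, ?_, ?_⟩
  · intro h
    apply hne
    have : t1 = t0⁻¹ := eq_inv_of_mul_eq_one_right h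
    rw [this]
    exact inv_eq_of_mul_eq_one_left s0
  · calc t0 * t1 * (t0 * t1) = t0 * (t1 * t0) * t1 := by group
      _ = t0 * (t0 * t1) * t1 := by rw [c01.eq]
      _ = (t0 * t0) * (t1 * t1) := by group
      _ = 1 := by rw [s0, s1, one_mul]
  · intro h
    rw [c12.eq] at h
    have h1 : t0 = t2 := mul_right_cancel h
    apply hne
    rw [← e01, h1, e20, ← h1]
  · calc t0 * t1 * (t1 * t2) = t0 * (t1 * (t1 * t2)) := by group
      _ = (t1 * (t1 * t2)) * t0 := by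
        exact ((c01.mul_right (c01.mul_right c20.symm))).eq
      _ = t1 * (t1 * t2 * t0) := by group
      _ = t1 * (t2 * t1 * t0) := by rw [c12.eq]
      _ = t1 * (t2 * (t0 * t1)) := by rw [mul_assoc t2, c01.eq]
      _ = t1 * t2 * (t0 * t1) := by group
  · rw [hmul, e01, e12]
  · rw [hmul, e12, e20]
    calc t2 * t0 = t0 * t2 := c20.eq
      _ = t0 * (t1 * t1) * t2 := by rw [s1, mul_one]
      _ = t0 * t1 * (t1 * t2) := by group
  · -- the conjugations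
    have hzi : z⁻¹ = z := inv_eq_of_mul_eq_one_left hzz
    -- conjugation formulas inside `R1`
    have anti : ∀ x y : G, Commute z x → x * y = y * x * z → x * y * x⁻¹ = y * z := by
      intro x y hz h
      rw [h, mul_assoc y, ← hz.eq]; group
    have anti' : ∀ x y : G, Commute z x → Commute z y → x * y = y * x * z → y * x * y⁻¹ = x * z := by
      intro x y hzx hzy h
      have h1 : y * x = x * y * z := by
        rw [h, mul_assoc, hzz, mul_one]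
      exact anti y x hzy h1
    have self : ∀ x : G, x * x * x⁻¹ = x * 1 := by intro x; group
    have one1 : ∀ x : G, (1 : G) * x * 1⁻¹ = x * 1 := by intro x; group
    have zc : ∀ x2 ∈ R2, ∀ y1 ∈ R1, ∀ y2 ∈ R2, Commute z (x2 * (y1 * y2)) := fun x2 h2 y1 h1 y2 h2' =>
      (Z2 x2 h2).mul_right ((Z1 y1 h1).mul_right (Z2 y2 h2'))
    have key : ∀ g ∈ R1, ∀ α β γ : G, (α = 1 ∨ α = z) → (β = 1 ∨ β = z) → (γ = 1 ∨ γ = z) →
        g * a1 * g⁻¹ = a1 * α → g * b1 * g⁻¹ = b1 * β → g * c1 * g⁻¹ = c1 * γ →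
        g * (t0 * t1) * g⁻¹ = t0 * t1 * (α * β) ∧ g * (t1 * t2) * g⁻¹ = t1 * t2 * (β * γ) := by
      intro g hg α β γ hα hβ hγ h1 h2 h3
      have cen : ∀ s : G, (s = 1 ∨ s = z) → (∀ x2 ∈ R2, ∀ y1 ∈ R1, ∀ y2 ∈ R2,
          Commute s (x2 * (y1 * y2))) ∧ ∀ y2 ∈ R2, Commute s y2 := by
        rintro s (rfl | rfl)
        · exact ⟨fun _ _ _ _ _ _ => Commute.one_left _, fun _ _ => Commute.one_left _⟩
        · exact ⟨zc, Z2⟩
      constructor
      · rw [ht0, ht1]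
        exact PK.conj_prod h1 h2 (C g hg a2 ha2) (C g hg b2 hb2) ((cen α hα).1 a2 ha2 b1 hb1 b2 hb2)
          ((cen β hβ).2 b2 hb2)
      · rw [ht1, ht2]
        exact PK.conj_prod h2 h3 (C g hg b2 hb2) (C g hg c2 hc2) ((cen β hβ).1 b2 hb2 c1 hc1 c2 hc2)
          ((cen γ hγ).2 c2 hc2)
    have k00 := key 1 R1.one_mem 1 1 1 (Or.inl rfl) (Or.inl rfl) (Or.inl rfl) (one1 a1) (one1 b1)
      (one1 c1)
    have k10 := key a1 ha1 1 z z (Or.inl rfl) (Or.inr rfl) (Or.inr rfl) (self a1)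
      (anti a1 b1 (Z1 a1 ha1) ab1) (anti' c1 a1 (Z1 c1 hc1) (Z1 a1 ha1) ca1)
    have k11 := key b1 hb1 z 1 z (Or.inr rfl) (Or.inl rfl) (Or.inr rfl)
      (anti' a1 b1 (Z1 a1 ha1) (Z1 b1 hb1) ab1) (self b1) (anti b1 c1 (Z1 b1 hb1) bc1)
    have k01 := key c1 hc1 z z 1 (Or.inr rfl) (Or.inr rfl) (Or.inl rfl)
      (anti c1 a1 (Z1 c1 hc1) ca1) (anti' b1 c1 (Z1 b1 hb1) (Z1 c1 hc1) bc1) (self c1)
    simp only [mul_one, one_mul, hzz] at k00 k10 k11 k01
    intro i j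
    rw [PK.pow_of_sq hzz i, PK.pow_of_sq hzz j]
    by_cases hi : Even i <;> by_cases hj : Even j
    · exact ⟨1, R1.one_mem, by simp [hi, hj]⟩
    · exact ⟨c1, hc1, by simpa [hi, hj] using k01⟩
    · exact ⟨a1, ha1, by simpa [hi, hj] using k10⟩
    · exact ⟨b1, hb1, by simpa [hi, hj] using k11⟩

end Cfsg.Agent.Lib.Helper50.KM
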