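import Cfsg.Agent.Lib.Helper50.KM.PF
import Cfsg.Agent.Lib.Helper50.KM.PK
import Cfsg.Agent.Lib.Helper47.AxB

set_option autoImplicit false
open Cfsg Subgroup

namespace Cfsg.Agent.Lib.Helper50.KM

variable {G : Type*} [Group G]

namespace PL

theorem mem_normalizer_of_conj [Finite G] {W : Subgroup G} {g : G}
    (h : ∀ w ∈ W, g * w * g⁻¹ ∈ W) : g ∈ normalizer (W : Set G) := by
  have hle : W.map (MulAut.conj g).toMonoidHom ≤ W := by
    rintro _ ⟨w, hw, rfl⟩
    exact h w hw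
  have heq : W.map (MulAut.conj g).toMonoidHom = W := by
    apply Subgroup.eq_of_le_of_card_ge hle
    rw [Subgroup.card_map_of_injective (MulAut.conj g).injective]
  rw [mem_normalizer_iff]
  intro x
  constructor
  · intro hx
    exact h x hx
  · intro hx
    rw [← heq] at hx
    obtain ⟨w, hw, hw'⟩ := hx
    have : w = x := by
      have h2 : g * w * g⁻¹ = g * x * g⁻¹ := hw'
      exact mul_left_cancel (mul_right_cancel h2)
    rwa [← this]

theorem conj_mem_of_normalizer {W : Subgroup G} {g w : G} (hg : g ∈ normalizer (W : Set G))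
    (hw : w ∈ W) : g * w * g⁻¹ ∈ W := (mem_normalizer_iff.mp hg w).mp hw

theorem normalizer_le_normalizer_centralizer [Finite G] (R : Subgroup G) :
    normalizer (R : Set G) ≤ normalizer ((centralizer (R : Set G) : Subgroup G) : Set G) := by
  intro g hg
  apply mem_normalizer_of_conj
  intro w hw
  rw [mem_centralizer_iff] at hw ⊢
  intro r hr
  have hr' : g⁻¹ * r * g⁻¹⁻¹ ∈ R := conj_mem_of_normalizer (inv_mem hg) hr
  have h1 := hw _ hr'
  rw [inv_inv] at h1
  calc r * (g * w * g⁻¹) = g * ((g⁻¹ * r * g) * w) * g⁻¹ := by group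
    _ = g * (w * (g⁻¹ * r * g)) * g⁻¹ := by rw [h1]
    _ = g * w * g⁻¹ * r := by group

theorem mem_normalizer_inf [Finite G] {K L : Subgroup G} {g : G} (h1 : g ∈ normalizer (K : Set G))
    (h2 : g ∈ normalizer (L : Set G)) : g ∈ normalizer ((K ⊓ L : Subgroup G) : Set G) := by
  apply mem_normalizer_of_conj
  intro w hw
  exact ⟨conj_mem_of_normalizer h1 hw.1, conj_mem_of_normalizer h2 hw.2⟩

theorem mem_zpowers_invol {z x : G} (hz : z * z = 1) (hx : x ∈ zpowers z) : x = 1 ∨ x = z := by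
  obtain ⟨i, rfl⟩ := mem_zpowers_iff.mp hx
  have h2 : z ^ (2 : ℤ) = 1 := by
    rw [zpow_ofNat, pow_two]; exact hz
  rcases Int.even_or_odd' i with ⟨k, rfl | rfl⟩
  · left
    rw [zpow_mul, h2, one_zpow]
  · right
    rw [zpow_add, zpow_mul, h2, one_zpow, one_mul, zpow_one]

theorem commute_sup_zpowers {D : Subgroup G} {e x : G} (h1 : ∀ d ∈ D, Commute d x)
    (h2 : Commute e x) : ∀ g ∈ D ⊔ zpowers e, Commute g x := by
  have hle : D ⊔ zpowers e ≤ centralizer ({x} : Set G) := by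
    rw [sup_le_iff, zpowers_le]
    constructor
    · intro d hd
      rw [mem_centralizer_iff]
      rintro _ rfl
      exact (h1 d hd).eq.symm
    · rw [mem_centralizer_iff]
      rintro _ rfl
      exact h2.eq.symm
  intro g hg
  exact ((mem_centralizer_iff.mp (hle hg)) x rfl).symm

theorem commute_sup {A B : Subgroup G} {x : G} (h1 : ∀ d ∈ A, Commute d x)
    (h2 : ∀ d ∈ B, Commute d x) : ∀ g ∈ A ⊔ B, Commute g x := by
  have hle : A ⊔ B ≤ centralizer ({x} : Set G) := by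
    rw [sup_le_iff]
    constructor
    · intro d hd
      rw [mem_centralizer_iff]
      rintro _ rfl
      exact (h1 d hd).eq.symm
    · intro d hd
      rw [mem_centralizer_iff]
      rintro _ rfl
      exact (h2 d hd).eq.symm
  intro g hg
  exact ((mem_centralizer_iff.mp (hle hg)) x rfl).symm

/-- elements of the four-group. -/
theorem mem_four {v1 v2 x : G} (h1 : v1 * v1 = 1) (h2 : v2 * v2 = 1) (hc : v1 * v2 = v2 * v1)
    (hx : x ∈ zpowers v1 ⊔ zpowers v2) : x = 1 ∨ x = v1 ∨ x = v2 ∨ x = v1 * v2 := by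
  have hcc : ∀ y ∈ zpowers v1, Commute y v2 := by
    intro y hy
    obtain ⟨i, rfl⟩ := mem_zpowers_iff.mp hy
    exact (show Commute v1 v2 from hc).zpow_left i
  obtain ⟨a, ha, i, rfl⟩ := (mem_sup_zpowers hcc).mp hx
  have hb : v2 ^ i ∈ zpowers v2 := zpow_mem (mem_zpowers v2) i
  rcases mem_zpowers_invol h1 ha with rfl | rfl <;> rcases mem_zpowers_invol h2 hb with h | h <;>
    rw [h] <;> simp

theorem exists_nat_pow {X0 : Subgroup G} {z v : G} (hz : z * z = 1)
    (hc : ∀ x ∈ X0, Commute x z) (hv : v ∈ X0 ⊔ zpowers z) : ∃ i : ℕ, v * z ^ i ∈ X0 := by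
  obtain ⟨a, ha, i, rfl⟩ := (mem_sup_zpowers hc).mp hv
  have hb : z ^ i ∈ zpowers z := zpow_mem (mem_zpowers z) i
  rcases mem_zpowers_invol hz hb with h | h
  · exact ⟨0, by rw [h]; simpa using ha⟩
  · exact ⟨1, by rw [h, pow_one, mul_assoc, hz, mul_one]; exact ha⟩

end PL

open PL

theorem false_of_three [Finite G] {n : ℕ} (H : Hyp G 3 n)
    {E Q : Subgroup G} {z : G} (C : Cfg 3 n E Q z) {D1 D2 R1 R2 : Subgroup G}
    (B : Blocks 3 E Q z D1 D2 R1 R2) : False := by
  have hn := H.three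
  have hEc : IsMulCommutative E := C.hE.1
  have hEcomm : ∀ a ∈ E, ∀ b ∈ E, Commute a b := by
    intro a ha b hb
    exact congrArg Subtype.val (hEc.is_comm.comm (⟨a, ha⟩ : E) ⟨b, hb⟩)
  obtain ⟨e, he, heD1, heD2⟩ := exists_outside B.hD1 B.hD2 B.c1 B.c2
  have he3 : e ^ 3 = 1 := C.hE.2 e he
  have hf1 : ∀ x ∈ R1, Commute e x → x = 1 ∨ x = z := by
    intro x hx hex
    apply B.X1.fixed x hx
    rw [← hyp_sup_zpowers B.hD1 B.c1 he heD1]
    apply commute_sup_zpowers _ hex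
    intro d hd
    exact (mem_centralizer_iff.mp (B.hRD1 hx)) d hd
  have hf2 : ∀ x ∈ R2, Commute e x → x = 1 ∨ x = z := by
    intro x hx hex
    apply B.X2.fixed x hx
    rw [← hyp_sup_zpowers B.hD2 B.c2 he heD2]
    apply commute_sup_zpowers _ hex
    intro d hd
    exact (mem_centralizer_iff.mp (B.hRD2 hx)) d hd
  obtain ⟨v1, v2, hv1R, hv2R, hv1ne, hv1sq, hv12, hvc, hev1, hev2, hg⟩ :=
    exists_four B.X1 B.X2 B.hRR he he3 hf1 hf2
  have hv2sq : v2 * v2 = 1 := by
    rw [← hev1]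
    calc e * v1 * e⁻¹ * (e * v1 * e⁻¹) = e * (v1 * v1) * e⁻¹ := by group
      _ = 1 := by rw [hv1sq]; group
  have hv2ne : v2 ≠ 1 := by
    intro h
    apply hv1ne
    rw [h] at hev1
    calc v1 = e⁻¹ * (e * v1 * e⁻¹) * e := by group
      _ = 1 := by rw [hev1]; group
  -- the subgroup D
  obtain ⟨-, hDc⟩ := hyp_sup_inf C.hE B.hD1 B.hD2 B.c1 B.c2 B.hne
  obtain ⟨D, hDdef⟩ : ∃ D : Subgroup G, D = D1 ⊓ D2 := ⟨_, rfl⟩
  rw [← hDdef] at hDc
  have hDE : D ≤ E := by rw [hDdef]; exact inf_le_left.trans B.hD1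
  have hDea : IsElementaryAbelian 3 D := ea_mono C.hE hDE
  have hDcard : Nat.card D = 3 ^ (n - 2) := by
    have h1 : 3 ^ n = 3 ^ (n - 2) * 3 ^ 2 := by rw [← pow_add]; congr 1; omega
    rw [C.hEc, h1] at hDc
    exact Nat.eq_of_mul_eq_mul_right (by norm_num) hDc
  have hDne : D ≠ ⊥ := by
    intro h
    rw [h, Subgroup.card_bot] at hDcard
    have h2 : 1 < 3 ^ (n - 2) := Nat.one_lt_pow (by omega) (by norm_num)
    omega
  obtain ⟨P, hP3, hPC, hNP, hPf⟩ := H.pside D (ea_isPGroup hDea) hDne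
  have hCN : centralizer (D : Set G) ≤ normalizer (P : Set G) :=
    (centralizer_le_normalizer _).trans hNP
  have hR1D : R1 ≤ centralizer (D : Set G) :=
    B.hRD1.trans (centralizer_le (by rw [hDdef]; exact inf_le_left))
  have hR2D : R2 ≤ centralizer (D : Set G) :=
    B.hRD2.trans (centralizer_le (by rw [hDdef]; exact inf_le_right))
  have hED : E ≤ centralizer (D : Set G) := by
    intro a ha
    rw [mem_centralizer_iff]
    intro d hd
    exact hEcomm d (hDE hd) a ha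
  have hzD : z ∈ centralizer (D : Set G) := hR1D B.X1.hzR
  have hz2' : z ^ 2 = 1 := by rw [pow_two]; exact C.hz2
  have hoz : orderOf z = 2 := orderOf_eq_prime hz2' C.hz1
  have hzP : ¬ ∀ y ∈ P, Commute y z := by
    intro h
    exact C.hz1 (hPf z hzD (by rw [hoz]; norm_num) h)
  have hRRD : R1 ⊔ R2 ≤ centralizer (D : Set G) := sup_le hR1D hR2D
  have hzRR : ∀ x ∈ R1 ⊔ R2, Commute x z := commute_sup B.X1.hzc B.X2.hzc
  have hzv1 : Commute v1 z := hzRR v1 hv1R
  have hzv2 : Commute v2 z := hzRR v2 hv2R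
  -- the group X
  have hv1sq' : v1 ^ 2 = 1 := by rw [pow_two]; exact hv1sq
  have hv2sq' : v2 ^ 2 = 1 := by rw [pow_two]; exact hv2sq
  have hc1 : ∀ x ∈ zpowers z, Commute x v1 := by
    intro x hx
    obtain ⟨i, rfl⟩ := mem_zpowers_iff.mp hx
    exact hzv1.symm.zpow_left i
  have hX1 : IsElementaryAbelian 2 (zpowers z ⊔ zpowers v1) :=
    ea_sup_zpowers (ea_zpowers hz2') hv1sq' hc1
  have hc2 : ∀ x ∈ zpowers z ⊔ zpowers v1, Commute x v2 := by
    apply commute_sup_zpowers _ (show Commute v1 v2 from hvc)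
    intro x hx
    obtain ⟨i, rfl⟩ := mem_zpowers_iff.mp hx
    exact hzv2.symm.zpow_left i
  have hX : IsElementaryAbelian 2 (zpowers z ⊔ zpowers v1 ⊔ zpowers v2) :=
    ea_sup_zpowers hX1 hv2sq' hc2
  have hXD : zpowers z ⊔ zpowers v1 ⊔ zpowers v2 ≤ centralizer (D : Set G) := by
    rw [sup_le_iff, sup_le_iff, zpowers_le, zpowers_le, zpowers_le]
    exact ⟨⟨hzD, hRRD hv1R⟩, hRRD hv2R⟩
  have hPodd : Odd (Nat.card P) := by
    obtain ⟨k, hk⟩ := IsPGroup.iff_card.mp hP3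
    rw [hk]
    exact Odd.pow (by decide)
  have hzX : z ∈ zpowers z ⊔ zpowers v1 ⊔ zpowers v2 :=
    le_sup_left (a := zpowers z ⊔ zpowers v1) (le_sup_left (a := zpowers z) (mem_zpowers z))
  obtain ⟨X0, hX0X, hzX0, hX0z, hX0nc⟩ := exists_hyperplane hX hPodd (hXD.trans hCN) hzX hzP
  have hX0c : ∀ x ∈ X0, Commute x z := by
    intro x hx
    have hXc : IsMulCommutative (zpowers z ⊔ zpowers v1 ⊔ zpowers v2 : Subgroup G) := hX.1
    exact congrArg Subtype.val (hXc.is_comm.comm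
      (⟨x, hX0X hx⟩ : (zpowers z ⊔ zpowers v1 ⊔ zpowers v2 : Subgroup G)) ⟨z, hzX⟩)
  have hv1X : v1 ∈ X0 ⊔ zpowers z := by
    rw [hX0z]
    exact le_sup_left (a := zpowers z ⊔ zpowers v1) (le_sup_right (a := zpowers z) (mem_zpowers v1))
  have hv2X : v2 ∈ X0 ⊔ zpowers z := by
    rw [hX0z]
    exact le_sup_right (a := zpowers z ⊔ zpowers v1) (mem_zpowers v2)
  obtain ⟨i, hi⟩ := exists_nat_pow C.hz2 hX0c hv1X
  obtain ⟨j, hj⟩ := exists_nat_pow C.hz2 hX0c hv2X
  obtain ⟨g, hgR, hg1, hg2⟩ := hg i j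
  push Not at hX0nc
  obtain ⟨w, hw, hwz⟩ := hX0nc
  have hgz : Commute g z := B.X1.hzc g hgR
  have hgP : g ∈ normalizer (P : Set G) := hCN (hR1D hgR)
  obtain ⟨w', hw'def⟩ : ∃ w', w' = g⁻¹ * w * g := ⟨_, rfl⟩
  have hw'P : w' ∈ P := by
    have := conj_mem_of_normalizer (inv_mem hgP) hw.1
    rw [inv_inv] at this
    rw [hw'def]; exact this
  have hwu1 : (v1 * z ^ i) * w = w * (v1 * z ^ i) := (mem_centralizer_iff.mp hw.2) _ hi
  have hwu2 : (v2 * z ^ j) * w = w * (v2 * z ^ j) := (mem_centralizer_iff.mp hw.2) _ hj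
  have hw'v1 : Commute v1 w' := by
    rw [← hg1] at hwu1
    show v1 * w' = w' * v1
    rw [hw'def]
    calc v1 * (g⁻¹ * w * g) = g⁻¹ * ((g * v1 * g⁻¹) * w) * g := by group
      _ = g⁻¹ * (w * (g * v1 * g⁻¹)) * g := by rw [hwu1]
      _ = g⁻¹ * w * g * v1 := by group
  have hw'v2 : Commute v2 w' := by
    rw [← hg2] at hwu2
    show v2 * w' = w' * v2
    rw [hw'def]
    calc v2 * (g⁻¹ * w * g) = g⁻¹ * ((g * v2 * g⁻¹) * w) * g := by group
      _ = g⁻¹ * (w * (g * v2 * g⁻¹)) * g := by rw [hwu2]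
      _ = g⁻¹ * w * g * v2 := by group
  have hw'z : ¬ Commute w' z := by
    intro h
    apply hwz
    have h1 : g⁻¹ * w * g * z = z * (g⁻¹ * w * g) := by rw [← hw'def]; exact h
    have h2 : g * z = z * g := hgz
    have h3 : z * g⁻¹ = g⁻¹ * z := (hgz.inv_left).eq.symm
    show w * z = z * w
    calc w * z = g * (g⁻¹ * w * (g * z)) * g⁻¹ * (z⁻¹ * z) := by rw [h2]; group
      _ = g * (g⁻¹ * w * g * z) * g⁻¹ := by group
      _ = g * (z * (g⁻¹ * w * g)) * g⁻¹ := by rw [h1]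
      _ = (g * z) * g⁻¹ * w := by group
      _ = z * w := by rw [h2]; group
  -- the four-group V and W = P ⊓ C(V)
  obtain ⟨V, hVdef⟩ : ∃ V : Subgroup G, V = zpowers v1 ⊔ zpowers v2 := ⟨_, rfl⟩
  have hVmem : ∀ x ∈ V, x = 1 ∨ x = v1 ∨ x = v2 ∨ x = v1 * v2 := by
    intro x hx
    rw [hVdef] at hx
    exact mem_four hv1sq hv2sq hvc hx
  have hv1V : v1 ∈ V := by rw [hVdef]; exact le_sup_left (a := zpowers v1) (mem_zpowers v1)
  have hv2V : v2 ∈ V := by rw [hVdef]; exact le_sup_right (a := zpowers v1) (mem_zpowers v2)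
  have hVea : IsElementaryAbelian 2 V := by
    rw [hVdef]
    apply ea_sup_zpowers (ea_zpowers hv1sq') hv2sq'
    intro x hx
    obtain ⟨k, rfl⟩ := mem_zpowers_iff.mp hx
    exact (show Commute v1 v2 from hvc).zpow_left k
  have hVne : V ≠ ⊥ := by
    intro h
    rw [h, mem_bot] at hv1V
    exact hv1ne hv1V
  have hCV : ∀ x : G, Commute v1 x → Commute v2 x → x ∈ centralizer (V : Set G) := by
    intro x h1 h2
    rw [mem_centralizer_iff]
    intro y hy
    rcases hVmem y hy with rfl | rfl | rfl | rfl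
    · simp
    · exact h1
    · exact h2
    · exact (h1.mul_left h2)
  have hNV : ∀ x : G, x * v1 * x⁻¹ ∈ V → x * v2 * x⁻¹ ∈ V → x ∈ normalizer (V : Set G) := by
    intro x h1 h2
    apply mem_normalizer_of_conj
    intro y hy
    rcases hVmem y hy with rfl | rfl | rfl | rfl
    · simp
    · exact h1
    · exact h2
    · have : x * (v1 * v2) * x⁻¹ = (x * v1 * x⁻¹) * (x * v2 * x⁻¹) := by group
      rw [this]
      exact V.mul_mem h1 h2
  have hCNV : ∀ x : G, Commute v1 x → Commute v2 x → x ∈ normalizer (V : Set G) := by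
    intro x h1 h2
    exact centralizer_le_normalizer _ (hCV x h1 h2)
  obtain ⟨W, hWdef⟩ : ∃ W : Subgroup G, W = P ⊓ centralizer (V : Set G) := ⟨_, rfl⟩
  have hw'W : w' ∈ W := by
    rw [hWdef]
    exact ⟨hw'P, hCV w' hw'v1 hw'v2⟩
  have hW3 : IsPGroup 3 W := by rw [hWdef]; exact hP3.to_le inf_le_left
  have hNW : ∀ x : G, x ∈ normalizer (P : Set G) → x ∈ normalizer (V : Set G) →
      x ∈ normalizer (W : Set G) := by
    intro x h1 h2
    rw [hWdef]
    exact mem_normalizer_inf h1 (normalizer_le_normalizer_centralizer V h2)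
  -- E0
  obtain ⟨E0, hE0def⟩ : ∃ E0 : Subgroup G, E0 = D ⊔ zpowers e := ⟨_, rfl⟩
  have heD : e ∉ D := by
    intro h
    rw [hDdef] at h
    exact heD1 h.1
  have hDe : ∀ x ∈ D, Commute x e := fun x hx => hEcomm x (hDE hx) e he
  have hE0E : E0 ≤ E := by
    rw [hE0def, sup_le_iff, zpowers_le]
    exact ⟨hDE, he⟩
  have hE0ea : IsElementaryAbelian 3 E0 := ea_mono C.hE hE0E
  have hE0card : Nat.card E0 = 3 ^ (n - 2) * 3 := by
    rw [hE0def, card_sup_zpowers (q := 3) he3 hDe heD, hDcard]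
  have heNV : e ∈ normalizer (V : Set G) := by
    apply hNV
    · rw [hev1]; exact hv2V
    · rw [hev2]; exact V.mul_mem hv1V hv2V
  have hE0NV : E0 ≤ normalizer (V : Set G) := by
    rw [hE0def, sup_le_iff, zpowers_le]
    refine ⟨?_, heNV⟩
    intro d hd
    apply hCNV
    · exact ((mem_centralizer_iff.mp (hRRD hv1R)) d hd).symm
    · exact ((mem_centralizer_iff.mp (hRRD hv2R)) d hd).symm
  have hE0NW : E0 ≤ normalizer (W : Set G) := by
    intro x hx
    exact hNW x (hCN (hED (hE0E hx))) (hE0NV hx)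
  have hzNV : z ∈ normalizer (V : Set G) := hCNV z hzv1 hzv2
  have hzNW : z ∈ normalizer (W : Set G) := hNW z (hCN hzD) hzNV
  have hzE0 : z ∈ centralizer (E0 : Set G) := by
    rw [mem_centralizer_iff]
    intro x hx
    exact C.hzE x (hE0E hx)
  have hnc2 : ¬ ∀ x ∈ W ⊓ centralizer (E0 : Set G), Commute x z := by
    intro h
    exact hw'z (Cfsg.Agent.Lib.Helper47.thompson_AxB (p := 3) (R := W) (B := E0) hW3
      (ea_isPGroup hE0ea) (by rw [hoz]; norm_num) hzNW hE0NW hzE0 h w' hw'W)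
  have hzNWE : z ∈ normalizer ((W ⊓ centralizer (E0 : Set G) : Subgroup G) : Set G) :=
    mem_normalizer_inf hzNW (normalizer_le_normalizer_centralizer E0
      (centralizer_le_normalizer _ hzE0))
  obtain ⟨u, hu, hou, hzu⟩ := exists_inverted (p := 3) (by norm_num) (hW3.to_le inf_le_left)
    C.hz2 hzNWE hnc2
  have hu3 : u ^ 3 = 1 := by rw [← hou]; exact pow_orderOf_eq_one u
  have huE0 : u ∉ E0 := by
    intro h
    have h1 : u * z = z * u := (mem_centralizer_iff.mp hzE0) u h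
    have h2 : u = u⁻¹ := by
      rw [← hzu, ← h1]; group
    have h3 : u ^ 2 = 1 := by
      rw [pow_two]
      nth_rewrite 1 [h2]
      group
    have h4 : orderOf u ∣ 2 := orderOf_dvd_of_pow_eq_one h3
    rw [hou] at h4
    norm_num at h4
  have hE0u : ∀ x ∈ E0, Commute x u := fun x hx => (mem_centralizer_iff.mp hu.2) x hx
  have hE'ea : IsElementaryAbelian 3 (E0 ⊔ zpowers u) := ea_sup_zpowers hE0ea hu3 hE0u
  have hE'card : Nat.card (E0 ⊔ zpowers u : Subgroup G) = 3 ^ n := by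
    rw [card_sup_zpowers (q := 3) hu3 hE0u huE0, hE0card, mul_assoc, ← pow_two, ← pow_add]
    congr 1
    omega
  have huV : u ∈ centralizer (V : Set G) := by
    have := hu.1
    rw [hWdef] at this
    exact this.2
  have hE'NV : E0 ⊔ zpowers u ≤ normalizer (V : Set G) := by
    rw [sup_le_iff, zpowers_le]
    exact ⟨hE0NV, centralizer_le_normalizer _ huV⟩
  apply fixed_ne_bot H hE'ea hE'card hVea hVne hE'NV
  rw [eq_bot_iff]
  intro x hx
  rw [mem_bot]
  have heE' : e ∈ E0 ⊔ zpowers u := by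
    apply le_sup_left (a := E0)
    rw [hE0def]
    exact le_sup_right (a := D) (mem_zpowers e)
  have hex : e * x = x * e := (mem_centralizer_iff.mp hx.2) e heE'
  have hex' : e * x * e⁻¹ = x := by rw [hex]; group
  rcases hVmem x hx.1 with rfl | rfl | rfl | rfl
  · rfl
  · exfalso
    rw [hev1] at hex'
    exact hv12 hex'.symm
  · exfalso
    rw [hev2] at hex'
    apply hv1ne
    exact mul_right_cancel (by rw [hex', one_mul])
  · exfalso
    have h1 : e * (v1 * v2) * e⁻¹ = (e * v1 * e⁻¹) * (e * v2 * e⁻¹) := by group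
    rw [h1, hev1, hev2] at hex'
    -- v2 * (v1 * v2) = v1 * v2
    apply hv12
    have h2 : v2 * (v1 * v2) = v1 := by
      rw [hvc, ← mul_assoc, hv2sq, one_mul]
    rw [h2] at hex'
    -- v1 = v1 * v2
    exfalso
    apply hv2ne
    exact (mul_left_cancel (a := v1) (by rw [mul_one]; exact hex')).symm

end Cfsg.Agent.Lib.Helper50.KM
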